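import Cfsg.Agent.Lib.Lie.TrialityForm.Invariant

/-!
Elements of orders eight, twelve, eighteen and twenty-eight in the triality group over the field with two elements.
-/

set_option autoImplicit false
set_option maxRecDepth 100000
set_option linter.unusedSectionVars false

namespace Cfsg.Agent.Lie.TrialityForm

open Cfsg.Lie Matrix
open scoped MatrixGroups

/-- Selecting by a bit. -/
def sel (b : Bool) (c : ℕ) : ℕ := if b then c else 0

/-- Multiplication by the primitive element on codes. -/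
def shiftCode (c : ℕ) : ℕ := sel (c.testBit 0) 2 ^^^ sel (c.testBit 1) 4 ^^^ sel (c.testBit 2) 3

/-- Multiplication on codes. -/
def mulCode (c d : ℕ) : ℕ :=
  sel (d.testBit 0) c ^^^ sel (d.testBit 1) (shiftCode c) ^^^ sel (d.testBit 2) (shiftCode (shiftCode c))

/-- A root operator on codes. -/
def rootCode (r c : ℕ) : List (List ℕ) :=
  (List.range 8).map fun i => (List.range 8).map fun j =>
    if i = j then 1 else if (i, j) ∈ supp r then c else 0

/-- Product of coded matrices. -/
def mulMat (A B : List (List ℕ)) : List (List ℕ) :=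
  (List.range 8).map fun i => (List.range 8).map fun j =>
    ((List.range 8).map fun k => mulCode ((A.getD i []).getD k 0) ((B.getD k []).getD j 0)).foldr (· ^^^ ·) 0

/-- The coded identity. -/
def oneMat : List (List ℕ) := (List.range 8).map fun i => (List.range 8).map fun j => if i = j then 1 else 0

/-- A coded word. -/
def wordMat' (w : List (ℕ × ℕ)) : List (List ℕ) := w.foldr (fun p M => mulMat (rootCode p.1 p.2) M) oneMat

/-- Powers of coded matrices. -/
def powMat (A : List (List ℕ)) : ℕ → List (List ℕ)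
  | 0 => oneMat
  | n + 1 => mulMat (powMat A n) A

variable {K : Type*} [Field K] [CharP K 2] (a : K)

/-- The value of a code. -/
def ev (c : ℕ) : K :=
  (if c.testBit 0 then 1 else 0) + (if c.testBit 1 then a else 0) + (if c.testBit 2 then a ^ 2 else 0)

theorem ev_xor (c d : ℕ) : ev a (c ^^^ d) = ev a c + ev a d := by
  have h : ∀ (x y : Bool) (z : K), (if Bool.xor x y then z else 0) = (if x then z else 0) + (if y then z else 0) :=
    fun x y z => by cases x <;> cases y <;> simp [CharTwo.add_self_eq_zero]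
  simp only [ev, Nat.testBit_xor, h]
  ring

theorem ev_sel (b : Bool) (c : ℕ) : ev a (sel b c) = if b then ev a c else 0 := by
  cases b <;> simp [sel, ev]

theorem ev_small : ev a 0 = 0 ∧ ev a 1 = 1 ∧ ev a 2 = a ∧ ev a 3 = 1 + a ∧ ev a 4 = a ^ 2 := by
  simp [ev, Nat.testBit, Nat.shiftRight_eq_div_pow]

theorem ev_shift (ha : a ^ 3 = 1 + a) (c : ℕ) : ev a (shiftCode c) = a * ev a c := by
  obtain ⟨-, -, h2, h3, h4⟩ := ev_small a
  rw [shiftCode, ev_xor, ev_xor, ev_sel, ev_sel, ev_sel, h2, h3, h4]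
  unfold ev
  have h0 : (2 : K) = 0 := CharTwo.two_eq_zero
  split_ifs <;> first
    | linear_combination -ha
    | linear_combination ha
    | linear_combination (0 : K) * h0

theorem ev_mul (ha : a ^ 3 = 1 + a) (c d : ℕ) : ev a (mulCode c d) = ev a c * ev a d := by
  rw [mulCode, ev_xor, ev_xor, ev_sel, ev_sel, ev_sel]
  simp only [ev_shift a ha]
  conv_rhs => arg 2; unfold ev
  split_ifs <;> ring

/-- The matrix of a coded matrix. -/
def toMat (A : List (List ℕ)) : Matrix I8 I8 K :=
  Matrix.of fun p q => ev a ((A.getD (e8 p : ℕ) []).getD (e8 q : ℕ) 0)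

theorem getD_range {α : Type*} (f : ℕ → α) (d : α) {i : ℕ} (hi : i < 8) :
    ((List.range 8).map f).getD i d = f i := by
  rw [List.getD_eq_getElem _ _ (by simpa using hi)]
  simp

theorem toMat_grid (f : ℕ → ℕ → ℕ) (p q : I8) :
    toMat a ((List.range 8).map fun i => (List.range 8).map (f i)) p q = ev a (f (e8 p : ℕ) (e8 q : ℕ)) := by
  rw [toMat, Matrix.of_apply, getD_range _ _ (e8 p).isLt, getD_range _ _ (e8 q).isLt]

theorem toMat_one : toMat a oneMat = (1 : Matrix I8 I8 K) := by
  ext p q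
  rw [oneMat, toMat_grid, Matrix.one_apply]
  by_cases h : p = q
  · rw [if_pos (by rw [h]), if_pos h]; exact (ev_small a).2.1
  · rw [if_neg (fun h' => h (e8.injective (Fin.ext h'))), if_neg h]; exact (ev_small a).1

theorem toMat_mul (ha : a ^ 3 = 1 + a) (A B : List (List ℕ)) :
    toMat a (mulMat A B) = toMat a A * toMat a B := by
  ext p q
  rw [mulMat, toMat_grid, Matrix.mul_apply]
  have h : ∀ L : List ℕ, ev a (L.foldr (· ^^^ ·) 0) = (L.map (ev a)).sum := fun L => by
    induction L with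
    | nil => simp [(ev_small a).1]
    | cons c L ih => rw [List.foldr_cons, ev_xor, ih, List.map_cons, List.sum_cons]
  rw [h, List.map_map, ← e8.symm.sum_comp]
  simp only [toMat, Matrix.of_apply, Equiv.apply_symm_apply, ← ev_mul a ha, Function.comp_def]
  rw [show (∑ x : Fin d4Rep.N, _) = ∑ x : Fin 8, _ from rfl, Fin.sum_univ_eight]
  simp [List.range, List.range.loop, add_assoc]

theorem toMat_root {r : ℕ} (hr : r < 24) (c : ℕ) :
    toMat a (rootCode r c) = (1 : Matrix I8 I8 K) + ev a c • nil r := by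
  have hs : ∀ r : Fin 24, (supp r.val).Nodup ∧ ∀ x ∈ supp r.val, x.1 ≠ x.2 := by decide +kernel
  obtain ⟨hnd, hne⟩ := hs ⟨r, hr⟩
  ext p q
  rw [rootCode, toMat_grid, Matrix.add_apply, Matrix.smul_apply, Matrix.one_apply, smul_eq_mul, nil]
  have key : ∀ L : List (ℕ × ℕ), L.Nodup → (L.map fun x => matUnit e8 (R := K) x.1 x.2).sum p q =
      if ((e8 p : ℕ), (e8 q : ℕ)) ∈ L then 1 else 0 := by
    intro L hL
    induction L with
    | nil => simp
    | cons x L ih =>
      obtain ⟨hx, hL'⟩ := List.nodup_cons.1 hL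
      rw [List.map_cons, List.sum_cons, Matrix.add_apply, ih hL', matUnit_apply]
      by_cases h : ((e8 p : ℕ) = x.1 ∧ (e8 q : ℕ) = x.2)
      · have : ((e8 p : ℕ), (e8 q : ℕ)) = x := Prod.ext h.1 h.2
        rw [if_pos h, if_neg (this ▸ hx), if_pos (this ▸ List.mem_cons_self ..), add_zero]
      · rw [if_neg h, zero_add]
        exact if_congr ⟨List.mem_cons_of_mem _, fun hm => (List.mem_cons.1 hm).resolve_left
          fun he => h ⟨congrArg Prod.fst he, congrArg Prod.snd he⟩⟩ rfl rfl
  rw [key _ hnd]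
  by_cases h : p = q
  · subst h
    rw [if_pos rfl, if_pos rfl, if_neg (fun hm => hne _ hm rfl), mul_zero, add_zero, (ev_small a).2.1]
  · rw [if_neg (fun h' => h (e8.injective (Fin.ext h'))), if_neg h, zero_add]
    split_ifs
    · rw [mul_one]
    · rw [mul_zero, (ev_small a).1]

theorem toMat_pow (ha : a ^ 3 = 1 + a) (A : List (List ℕ)) (n : ℕ) :
    toMat a (powMat A n) = toMat a A ^ n := by
  induction n with
  | zero => rw [powMat, toMat_one, pow_zero]
  | succ n ih => rw [powMat, toMat_mul a ha, ih, pow_succ]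

theorem toMat_ne_one (ha : a ^ 3 = 1 + a) {A : List (List ℕ)} {i j : ℕ} (hi : i < 8) (hj : j < 8)
    (h : (A.getD i []).getD j 0 < 8 ∧ (A.getD i []).getD j 0 ≠ if i = j then 1 else 0) :
    toMat a A ≠ (1 : Matrix I8 I8 K) := by
  intro he
  have h1 := congrArg (fun M : Matrix I8 I8 K => M (e8.symm ⟨i, hi⟩) (e8.symm ⟨j, hj⟩)) he
  simp only [toMat, Matrix.of_apply, Equiv.apply_symm_apply, Matrix.one_apply, e8.symm.injective.eq_iff,
    Fin.ext_iff] at h1
  have hinj : ∀ c < 8, ev a c = 0 → c = 0 := by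
    intro c hc h0
    by_contra hc0
    obtain ⟨d, -, hd⟩ :=
      (by decide +kernel : ∀ c < 8, c ≠ 0 → ∃ d < 8, mulCode c d = 1) c hc hc0
    have := ev_mul a ha c d
    rw [hd, (ev_small a).2.1, h0, zero_mul] at this
    exact one_ne_zero this
  refine h.2 (Nat.xor_eq_zero_iff.1 (hinj _ ?_ ?_))
  · exact Nat.xor_lt_two_pow (n := 3) h.1 (by split_ifs <;> norm_num)
  · rw [ev_xor, h1]
    split_ifs <;> simp [(ev_small a).1, (ev_small a).2.1, CharTwo.add_self_eq_zero]

/-- The blocks of the witnesses. -/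
def blocks : List (List (ℕ × ℕ)) :=
  [[(14, 1)], [(9, 1)], [(18, 1), (13, 1), (12, 1)], [(5, 1), (10, 1), (11, 1)], [(18, 2), (13, 4), (12, 6)],
    [(5, 4), (10, 6), (11, 2)]]

variable [Fintype K]

theorem blocks_words (ha : a ^ 3 = 1 + a) : ∀ b ∈ blocks,
    b.map (fun p => (p.1, ev a p.2)) ∈ d4Words K 2 := by
  have h4 : a ^ (2 ^ 2) = ev a 6 := by
    have h6 : ev a 6 = a + a ^ 2 := by simp [ev, Nat.testBit, Nat.shiftRight_eq_div_pow]
    rw [h6]; linear_combination a * ha
  obtain ⟨-, e1, e2, -, e4⟩ := ev_small a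
  have h8 : (a ^ 2) ^ (2 ^ 2) = a := by
    have : (a ^ 2) ^ (2 ^ 2) = (a ^ (2 ^ 2)) ^ 2 := by rw [← pow_mul, ← pow_mul, mul_comm]
    rw [this, h4, show ev a 6 = a + a ^ 2 by simp [ev, Nat.testBit, Nat.shiftRight_eq_div_pow], CharTwo.add_sq]
    linear_combination a * ha + CharTwo.add_self_eq_zero (a ^ 2)
  intro b hb
  simp only [blocks, List.mem_cons, List.not_mem_nil, or_false] at hb
  rcases hb with rfl | rfl | rfl | rfl | rfl | rfl <;> simp only [List.map_cons, List.map_nil, e1, e2, e4]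
  · exact Or.inl ⟨1, one_pow _, 14, by simp [d4p2], rfl⟩
  · exact Or.inl ⟨1, one_pow _, 9, by simp [d4m2], rfl⟩
  · exact Or.inr ⟨1, (d4p1, d4p3, d4p4), by simp, by simp [d4p1, d4p3, d4p4]⟩
  · exact Or.inr ⟨1, (d4m1, d4m3, d4m4), by simp, by simp [d4m1, d4m3, d4m4]⟩
  · exact Or.inr ⟨a, (d4p1, d4p3, d4p4), by simp, by simp only [h4]; rfl⟩
  · refine Or.inr ⟨a ^ 2, (d4m1, d4m3, d4m4), by simp, ?_⟩
    simp only [h8, ← pow_mul, show (2 : ℕ) * 2 = 2 ^ 2 from rfl, h4]
    rfl

theorem exists_word (ha : a ^ 3 = 1 + a) (bs : List (List (ℕ × ℕ))) (hbs : ∀ b ∈ bs, b ∈ blocks) :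
    ∃ g : ↥(twistedD4 K 2), (rho K g).1 = toMat a (wordMat' bs.flatten) := by
  let w := bs.flatten.map fun p => (p.1, ev a p.2)
  have hw : factsD4.wg w ∈ twistedD4 K 2 := by
    simp only [w]
    clear w
    induction bs with
    | nil => simp [Facts.wg, one_mem]
    | cons b bs ih =>
      rw [List.flatten_cons, List.map_append, Facts.wg, List.map_append, List.prod_append]
      exact mul_mem (Cfsg.Agent.Lie.D4.Setup.mem_twisted (blocks_words a ha b (hbs b (List.mem_cons_self ..))))
        (ih fun x hx => hbs x (List.mem_cons_of_mem _ hx))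
  refine ⟨⟨_, hw⟩, ?_⟩
  have hlt : ∀ b ∈ blocks, ∀ p ∈ b, p.1 < 24 := by decide +kernel
  have hL : ∀ p ∈ bs.flatten, p.1 < 24 := fun p hp => by
    obtain ⟨b, hb, hpb⟩ := List.mem_flatten.1 hp
    exact hlt b (hbs b hb) p hpb
  have hin : (Subgroup.inclusion (le_group K) ⟨_, hw⟩) =
      (w.map fun p => factsD4.xq p.1 p.2).prod := by
    refine Subtype.ext ?_
    show factsD4.wg w = (chevD4.group K).subtype _
    rw [map_list_prod, List.map_map]
    rfl
  rw [rho, MonoidHom.comp_apply, hin, map_list_prod, List.map_map, List.map_map]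
  generalize bs.flatten = L at hL
  induction L with
  | nil => simp [wordMat', toMat_one]
  | cons p L ih =>
    rw [List.map_cons, List.prod_cons, Units.val_mul, ih fun x hx => hL x (List.mem_cons_of_mem _ hx)]
    show (psi K (factsD4.xq p.1 (ev a p.2))).1 * _ = toMat a (mulMat (rootCode p.1 p.2) (wordMat' L))
    rw [psi_x, toMat_mul a ha, toMat_root a (hL p (List.mem_cons_self ..))]

theorem exists_root (hK : Fintype.card K = 8) : ∃ a : K, a ^ 3 = 1 + a := by
  classical
  obtain ⟨b, hb⟩ : ∃ b : K, b ∉ ({0, 1} : Finset K) := by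
    by_contra h
    push Not at h
    have := Finset.card_le_card (show (Finset.univ : Finset K) ⊆ {0, 1} from fun x _ => h x)
    rw [Finset.card_univ, hK] at this
    exact absurd (this.trans (Finset.card_le_two)) (by norm_num)
  simp only [Finset.mem_insert, Finset.mem_singleton, not_or] at hb
  obtain ⟨hb0, hb1⟩ := hb
  have h7 : b ^ 7 = 1 := by
    have h := FiniteField.pow_card_sub_one_eq_one b hb0
    rwa [hK] at h
  have hp : (b - 1) * ((b ^ 3 + b + 1) * (b ^ 3 + b ^ 2 + 1)) = 0 := by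
    have : (b - 1) * ((b ^ 3 + b + 1) * (b ^ 3 + b ^ 2 + 1)) =
        b ^ 7 - 1 + (b ^ 4 - b ^ 3) * 2 := by ring
    rw [this, h7, CharTwo.two_eq_zero, sub_self, mul_zero, add_zero]
  rcases mul_eq_zero.1 ((mul_eq_zero.1 hp).resolve_left (sub_ne_zero.2 hb1)) with h | h
  · exact ⟨b, by rw [add_assoc, CharTwo.add_eq_zero] at h; rw [h, add_comm]⟩
  · refine ⟨b⁻¹, ?_⟩
    have h' : b ^ 3 + b ^ 2 = 1 := by rwa [CharTwo.add_eq_zero] at h
    field_simp
    linear_combination -h' + (b ^ 3 + b^2 - 1) * 0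

theorem order_of_word (hK : Fintype.card K = 8) (bs : List (List (ℕ × ℕ))) (n p q : ℕ)
    (hbs : ∀ b ∈ bs, b ∈ blocks) (hn : 0 < n)
    (h1 : powMat (wordMat' bs.flatten) n = oneMat)
    (hdiv : ∀ d ∈ n.divisors, d = n ∨ d ∣ p ∨ d ∣ q)
    (hp : ∃ i < 8, ∃ j < 8, ((powMat (wordMat' bs.flatten) p).getD i []).getD j 0 < 8 ∧
      ((powMat (wordMat' bs.flatten) p).getD i []).getD j 0 ≠ if i = j then 1 else 0)
    (hq : ∃ i < 8, ∃ j < 8, ((powMat (wordMat' bs.flatten) q).getD i []).getD j 0 < 8 ∧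
      ((powMat (wordMat' bs.flatten) q).getD i []).getD j 0 ≠ if i = j then 1 else 0) :
    ∃ h : ↥(twistedD4 K 2), orderOf h = n := by
  obtain ⟨a, ha⟩ := exists_root hK
  obtain ⟨g, hg⟩ := exists_word a ha bs hbs
  refine ⟨g, ?_⟩
  have hpow : ∀ k, g ^ k = 1 ↔ toMat a (powMat (wordMat' bs.flatten) k) = (1 : Matrix I8 I8 K) := fun k => by
    rw [← (rho_injective hK).eq_iff, map_pow, map_one, Units.ext_iff, Units.val_pow_eq_pow_val, hg,
      Units.val_one, toMat_pow a ha]
  have hd : orderOf g ∈ n.divisors :=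
    Nat.mem_divisors.2 ⟨orderOf_dvd_of_pow_eq_one ((hpow n).2 (by rw [h1, toMat_one])), hn.ne'⟩
  rcases hdiv _ hd with h | h | h
  · exact h
  · obtain ⟨i, hi, j, hj, hij⟩ := hp
    exact absurd ((hpow p).1 (orderOf_dvd_iff_pow_eq_one.1 h)) (toMat_ne_one a ha hi hj hij)
  · obtain ⟨i, hi, j, hj, hij⟩ := hq
    exact absurd ((hpow q).1 (orderOf_dvd_iff_pow_eq_one.1 h)) (toMat_ne_one a ha hi hj hij)

theorem exists_orders (hK : Fintype.card K = 8) :
    ∀ n ∈ [8, 12, 18, 28], ∃ h : ↥(twistedD4 K 2), orderOf h = n := by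
  intro n hn
  simp only [List.mem_cons, List.not_mem_nil, or_false] at hn
  rcases hn with rfl | rfl | rfl | rfl
  · exact order_of_word hK [[(14, 1)], [(18, 2), (13, 4), (12, 6)]] 8 4 4
      (by decide +kernel) (by norm_num) (by decide +kernel) (by decide +kernel) (by decide +kernel) (by decide +kernel)
  · exact order_of_word hK [[(5, 1), (10, 1), (11, 1)], [(18, 1), (13, 1), (12, 1)], [(9, 1)]] 12 6 4
      (by decide +kernel) (by norm_num) (by decide +kernel) (by decide +kernel) (by decide +kernel) (by decide +kernel)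
  · exact order_of_word hK [[(5, 1), (10, 1), (11, 1)], [(14, 1)], [(18, 2), (13, 4), (12, 6)]] 18 9 6
      (by decide +kernel) (by norm_num) (by decide +kernel) (by decide +kernel) (by decide +kernel) (by decide +kernel)
  · exact order_of_word hK [[(9, 1)], [(5, 4), (10, 6), (11, 2)], [(18, 2), (13, 4), (12, 6)]] 28 14 4
      (by decide +kernel) (by norm_num) (by decide +kernel) (by decide +kernel) (by decide +kernel) (by decide +kernel)

end Cfsg.Agent.Lie.TrialityForm
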