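import Cfsg.Agent.Lib.Lie.TrialityForm.Rep

/-!
The invariant trilinear form of the three eight-dimensional representations in characteristic two.
-/

set_option autoImplicit false
set_option maxRecDepth 100000
set_option linter.unusedSectionVars false

namespace Cfsg.Agent.Lie.TrialityForm

open Cfsg.Lie Matrix
open scoped MatrixGroups

/-- The monomials of the form. -/
def Tlist : List (ℕ × ℕ × ℕ) :=
  [(0,4,3),(0,5,6),(0,6,5),(0,7,4),(1,2,4),(1,3,5),(1,4,2),(1,5,7),(2,1,4),(2,3,6),(2,4,1),(2,6,7),(3,0,4),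
   (3,3,3),(3,5,1),(3,6,2),(4,0,7),(4,1,2),(4,2,1),(4,3,0),(5,0,6),(5,1,3),(5,6,0),(5,7,1),(6,0,5),(6,2,3),
   (6,5,0),(6,7,2),(7,1,5),(7,2,6),(7,4,0),(7,7,7)]

/-- All multiplicities are even. -/
abbrev EvenList {α : Type*} [DecidableEq α] (L : List α) : Prop := ∀ z ∈ L, 2 ∣ L.count z

/-- Equal parities give equal sums. -/
theorem sum_eq_of_even {α M : Type*} [DecidableEq α] [AddCommGroup M] (hM : ∀ m : M, m + m = 0)
    (L₁ L₂ : List α) (f : α → M) (h : EvenList (L₁ ++ L₂)) :
    (L₁.map f).sum = (L₂.map f).sum := by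
  have h0 : ((L₁ ++ L₂).map f).sum = 0 := by
    rw [Finset.sum_list_map_count]
    refine Finset.sum_eq_zero fun z hz => ?_
    obtain ⟨k, hk⟩ := h z (List.mem_toFinset.1 hz)
    rw [hk, two_mul, add_nsmul, hM]
  rw [List.map_append, List.sum_append, add_eq_zero_iff_eq_neg] at h0
  rw [h0, neg_eq_iff_add_eq_zero, hM]

theorem sum_flatMap {α β M : Type*} [AddCommMonoid M] (L : List α) (g : α → List β) (f : β → M) :
    ((L.flatMap g).map f).sum = (L.map fun a => ((g a).map f).sum).sum := by
  induction L with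
  | nil => simp
  | cons a L ih => simp [List.flatMap_cons, ih]

theorem sum_prod3 {α β γ R : Type*} [CommRing R] (A : List α) (B : List β) (C : List γ) (f : α → R) (g : β → R)
    (h : γ → R) : (A.map f).sum * (B.map g).sum * (C.map h).sum =
      (A.map fun u => (B.map fun v => (C.map fun w => f u * g v * h w).sum).sum).sum := by
  simp only [List.sum_map_mul_left, List.sum_map_mul_right]

variable {K : Type*} [Field K]

/-- The coordinate with a numeric index. -/
def co (x : I8 → K) (i : ℕ) : K := if h : i < d4Rep.N then x (e8.symm ⟨i, h⟩) else 0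

theorem co_e8 (x : I8 → K) (p : I8) : co x (e8 p : ℕ) = x p := by
  rw [co, dif_pos (e8 p).isLt]
  exact congrArg x (e8.symm_apply_apply p)

theorem matUnit_mulVec_apply (j k : ℕ) (x : I8 → K) (p : I8) :
    (matUnit e8 (R := K) j k *ᵥ x) p = if (e8 p : ℕ) = j then co x k else 0 := by
  rw [Matrix.mulVec, dotProduct]
  simp only [matUnit_apply]
  by_cases hj : (e8 p : ℕ) = j
  · rw [if_pos hj]
    by_cases hk : k < d4Rep.N
    · rw [Finset.sum_eq_single (e8.symm ⟨k, hk⟩)]
      · rw [if_pos ⟨hj, by simp⟩, one_mul, co, dif_pos hk]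
      · intro q _ hq
        rw [if_neg (fun h : (e8 p : ℕ) = j ∧ (e8 q : ℕ) = k => hq (e8.injective (Fin.ext (by simpa using h.2)))), zero_mul]
      · simp
    · rw [co, dif_neg hk]
      refine Finset.sum_eq_zero fun q _ => ?_
      rw [if_neg (fun h : (e8 p : ℕ) = j ∧ (e8 q : ℕ) = k => hk (h.2 ▸ (e8 q).isLt)), zero_mul]
  · rw [if_neg hj]
    refine Finset.sum_eq_zero fun q _ => ?_
    rw [if_neg (fun h : (e8 p : ℕ) = j ∧ (e8 q : ℕ) = k => hj h.1), zero_mul]

/-- The trilinear form. -/
def T (x y z : I8 → K) : K := (Tlist.map fun p : ℕ × ℕ × ℕ => co x p.1 * co y p.2.1 * co z p.2.2).sum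

/-- The places where the image of a coordinate under a root operator comes from. -/
def alts (r i : ℕ) : List (ℕ × ℕ) :=
  (0, i) :: (supp r).flatMap fun p => if p.1 = i then [(1, p.2)] else []

theorem co_root (r : ℕ) (a : K) (x : I8 → K) {i : ℕ} (hi : i < 8) :
    co ((1 + a • nil r : Matrix I8 I8 K) *ᵥ x) i = ((alts r i).map fun u => a ^ u.1 * co x u.2).sum := by
  obtain ⟨p, rfl⟩ : ∃ p : I8, (e8 p : ℕ) = i := ⟨e8.symm ⟨i, hi⟩, by simp⟩
  rw [co_e8, Matrix.add_mulVec, Matrix.one_mulVec, Matrix.smul_mulVec, Pi.add_apply, Pi.smul_apply,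
    smul_eq_mul, alts, List.map_cons, List.sum_cons, pow_zero, one_mul, co_e8, sum_flatMap, nil]
  congr 1
  induction supp r with
  | nil => simp
  | cons b L ih =>
    simp only [List.map_cons, List.sum_cons, Matrix.add_mulVec, Pi.add_apply, mul_add, ih, matUnit_mulVec_apply]
    congr 1
    by_cases h : b.1 = (e8 p : ℕ)
    · simp [h]
    · simp [h, Ne.symm h]

/-- The expansion of the form under three root operators. -/
def expand (r₁ r₂ r₃ : ℕ) : List (ℕ × ℕ × ℕ × ℕ) :=
  Tlist.flatMap fun p => (alts r₁ p.1).flatMap fun u => (alts r₂ p.2.1).flatMap fun v =>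
    (alts r₃ p.2.2).map fun w => (u.1 + v.1 + w.1, u.2, v.2, w.2)

/-- The root triples preserving the form. -/
def triples : List (ℕ × ℕ × ℕ) :=
  [(14,14,14),(9,9,9),(18,12,13),(13,18,12),(12,13,18),(5,11,10),(10,5,11),(11,10,5)]

theorem triples_ok : ∀ q ∈ triples,
    EvenList (expand q.1 q.2.1 q.2.2 ++ Tlist.map (fun p => (0, p.1, p.2.1, p.2.2))) := by
  decide +kernel

theorem Tlist_lt : ∀ p ∈ Tlist, p.1 < 8 ∧ p.2.1 < 8 ∧ p.2.2 < 8 := by decide +kernel

variable [CharP K 2]

theorem T_root {r₁ r₂ r₃ : ℕ} (h : (r₁, r₂, r₃) ∈ triples) (a : K) (x y z : I8 → K) :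
    T ((1 + a • nil r₁ : Matrix I8 I8 K) *ᵥ x) ((1 + a • nil r₂ : Matrix I8 I8 K) *ᵥ y)
      ((1 + a • nil r₃ : Matrix I8 I8 K) *ᵥ z) = T x y z := by
  let f : ℕ × ℕ × ℕ × ℕ → K := fun u => a ^ u.1 * (co x u.2.1 * co y u.2.2.1 * co z u.2.2.2)
  have h1 : T ((1 + a • nil r₁ : Matrix I8 I8 K) *ᵥ x) ((1 + a • nil r₂ : Matrix I8 I8 K) *ᵥ y)
      ((1 + a • nil r₃ : Matrix I8 I8 K) *ᵥ z) = ((expand r₁ r₂ r₃).map f).sum := by
    rw [T, expand, sum_flatMap]
    refine congrArg List.sum (List.map_congr_left fun p hp => ?_)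
    obtain ⟨h1, h2, h3⟩ := Tlist_lt p hp
    rw [co_root r₁ a x h1, co_root r₂ a y h2, co_root r₃ a z h3, sum_flatMap, sum_prod3]
    refine congrArg List.sum (List.map_congr_left fun u _ => ?_)
    rw [sum_flatMap]
    refine congrArg List.sum (List.map_congr_left fun v _ => ?_)
    rw [List.map_map]
    refine congrArg List.sum (List.map_congr_left fun w _ => ?_)
    simp only [f, Function.comp_apply]
    ring
  rw [h1, sum_eq_of_even (fun m => CharTwo.add_self_eq_zero m) _ _ f (triples_ok _ h), List.map_map, T]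
  refine congrArg List.sum (List.map_congr_left fun p _ => ?_)
  simp [f]

/-- Products of root operators. -/
theorem nil_mul_comm : ∀ r s : ℕ, (r, s) ∈ [(18,13),(18,12),(13,12),(5,10),(5,11),(10,11)] →
    (nil r : Matrix I8 I8 K) * nil s = nil s * nil r := by
  have hprod : ∀ A B : List (ℕ × ℕ), (∀ a ∈ A, a.2 < 8) →
      (A.map fun p => matUnit e8 (R := K) p.1 p.2).sum * (B.map fun p => matUnit e8 (R := K) p.1 p.2).sum =
        ((A.flatMap fun a => B.flatMap fun b => if a.2 = b.1 then [(a.1, b.2)] else []).map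
          fun p => matUnit e8 (R := K) p.1 p.2).sum := by
    intro A B hA
    rw [sum_flatMap, ← List.sum_map_mul_right]
    refine congrArg List.sum (List.map_congr_left fun a ha => ?_)
    rw [sum_flatMap, ← List.sum_map_mul_left]
    refine congrArg List.sum (List.map_congr_left fun b _ => ?_)
    rw [matUnit_mul]
    by_cases h : a.2 = b.1
    · rw [if_pos ⟨h, hA a ha⟩, if_pos h]; simp
    · rw [if_neg (fun h' => h h'.1), if_neg h]; simp
  intro r s hrs
  have hlt : ∀ q : Fin 24, ∀ a ∈ supp q.val, a.2 < 8 := by decide +kernel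
  have h24 : ∀ q ∈ [(18,13),(18,12),(13,12),(5,10),(5,11),(10,11)], q.1 < 24 ∧ q.2 < 24 := by decide +kernel
  have heven : ∀ q ∈ [(18,13),(18,12),(13,12),(5,10),(5,11),(10,11)],
      EvenList (((supp q.1).flatMap fun a => (supp q.2).flatMap fun b => if a.2 = b.1 then [(a.1, b.2)] else []) ++
        ((supp q.2).flatMap fun a => (supp q.1).flatMap fun b => if a.2 = b.1 then [(a.1, b.2)] else [])) := by
    decide +kernel
  rw [nil, nil, hprod _ _ (hlt ⟨r, (h24 _ hrs).1⟩), hprod _ _ (hlt ⟨s, (h24 _ hrs).2⟩)]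
  exact sum_eq_of_even (fun m => by ext i j; exact CharTwo.add_self_eq_zero _) _ _ _ (heven _ hrs)

theorem root_comm {r s : ℕ} (h : (r, s) ∈ [(18,13),(18,12),(13,12),(5,10),(5,11),(10,11)]) (a b : K) :
    (1 + a • nil r : Matrix I8 I8 K) * (1 + b • nil s) = (1 + b • nil s) * (1 + a • nil r) :=
  ((Commute.one_left _).add_left
    ((Commute.one_right _).add_right ((show Commute (nil r : Matrix I8 I8 K) (nil s) from
      nil_mul_comm r s h).smul_left a |>.smul_right b))).eq

/-- The contraction of the form with a vector in the first place. -/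
def Mw (w : I8 → K) : Matrix I8 I8 K :=
  (Tlist.map fun p : ℕ × ℕ × ℕ => co w p.1 • matUnit e8 (R := K) p.2.1 p.2.2).sum

theorem T_eq_Mw (w y z : I8 → K) : T w y z = y ⬝ᵥ (Mw w *ᵥ z) := by
  rw [T, Mw]
  induction Tlist with
  | nil => simp
  | cons p L ih =>
    rw [List.map_cons, List.sum_cons, List.map_cons, List.sum_cons, Matrix.add_mulVec, dotProduct_add, ← ih]
    congr 1
    rw [Matrix.smul_mulVec, dotProduct_smul, dotProduct, smul_eq_mul]
    simp only [matUnit_mulVec_apply]
    by_cases h : p.2.1 < d4Rep.N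
    · rw [Finset.sum_eq_single (e8.symm ⟨p.2.1, h⟩)]
      · rw [if_pos (by simp)]
        conv_lhs => rw [co, co, co]
        rw [dif_pos h]
        unfold co
        ring
      · intro q _ hq
        rw [if_neg (fun h' => hq (e8.injective (Fin.ext (by simpa using h')))), mul_zero]
      · simp
    · rw [Finset.sum_eq_zero fun q _ => by rw [if_neg (fun h' : (e8 q : ℕ) = p.2.1 => h (h' ▸ (e8 q).isLt)), mul_zero]]
      rw [co, co, dif_neg h]
      ring

/-- The polar matrix of the hyperbolic form. -/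
def J : Matrix I8 I8 K := Matrix.of fun p q => if p.swap = q then 1 else 0

theorem mul_J_apply (A : Matrix I8 I8 K) (p q : I8) : (A * (J : Matrix I8 I8 K)) p q = A p q.swap := by
  rw [Matrix.mul_apply, Finset.sum_eq_single q.swap]
  · simp [J]
  · intro r _ hr
    simp only [J, Matrix.of_apply]
    rw [if_neg (fun h => hr (by rw [← h, Sum.swap_swap])), mul_zero]
  · simp

theorem J_mul_self : (J : Matrix I8 I8 K) * J = 1 := by
  ext p q
  rw [mul_J_apply, Matrix.one_apply]
  simp only [J, Matrix.of_apply]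
  exact if_congr ⟨fun h => by simpa using congrArg Sum.swap h, fun h => by rw [h]⟩ rfl rfl

theorem J_mulVec (y : I8 → K) (p : I8) : (J *ᵥ y) p = y p.swap := by
  simp [J, Matrix.mulVec, dotProduct]

theorem matUnit_mul_J (j k : ℕ) (hk : k < 8) :
    matUnit e8 (R := K) j k * J = matUnit e8 (R := K) j ((k + 4) % 8) := by
  have hs : ∀ q : I8, (e8 q.swap : ℕ) = ((e8 q : ℕ) + 4) % 8 := by decide +kernel
  ext p q
  rw [mul_J_apply, matUnit_apply, matUnit_apply, hs]
  have : (e8 q : ℕ) < 8 := (e8 q).isLt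
  exact if_congr (and_congr_right fun _ => by omega) rfl rfl

theorem transpose_matUnit (j k : ℕ) : (matUnit e8 (R := K) j k)ᵀ = matUnit e8 k j := by
  ext p q
  rw [Matrix.transpose_apply, matUnit_apply, matUnit_apply]
  exact if_congr and_comm rfl rfl

/-- The terms of the composition identity. -/
def compTerms : List (ℕ × ℕ × ℕ × ℕ) :=
  Tlist.flatMap fun p => Tlist.flatMap fun q =>
    if (p.2.2 + 4) % 8 = q.2.2 then [(min p.1 q.1, max p.1 q.1, p.2.1, (q.2.1 + 4) % 8)] else []

/-- The terms of the scalar. -/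
def scalTerms : List (ℕ × ℕ × ℕ × ℕ) :=
  (List.range 4).flatMap fun a => (List.range 8).map fun d => (a, a + 4, d, d)

theorem comp_ok : EvenList (compTerms ++ scalTerms) := by decide +kernel

theorem sum_diag : ((List.range 8).map fun d => matUnit e8 (R := K) d d).sum = 1 := by
  ext p q
  have h : ∀ L : List ℕ, L.Nodup → (L.map fun d => matUnit e8 (R := K) d d).sum p q =
      if p = q ∧ (e8 p : ℕ) ∈ L then 1 else 0 := by
    intro L hL
    induction L with
    | nil => simp
    | cons d L ih =>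
      obtain ⟨hd, hL'⟩ := List.nodup_cons.1 hL
      rw [List.map_cons, List.sum_cons, Matrix.add_apply, ih hL', matUnit_apply]
      by_cases hpq : p = q
      · subst hpq
        by_cases hp : (e8 p : ℕ) = d
        · simp [hp, hd]
        · simp [hp]
      · have : ¬((e8 p : ℕ) = d ∧ (e8 q : ℕ) = d) := fun h => hpq (e8.injective (Fin.ext (h.1.trans h.2.symm)))
        simp [hpq, this]
  rw [h _ List.nodup_range, Matrix.one_apply]
  exact if_congr ⟨fun h => h.1, fun h => ⟨h, List.mem_range.2 (e8 p).isLt⟩⟩ rfl rfl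

theorem Mw_comp (w : I8 → K) : (Mw w * J) * ((Mw w)ᵀ * J) = Cfsg.quadFormPlus 4 K w • (1 : Matrix I8 I8 K) := by
  let f : ℕ × ℕ × ℕ × ℕ → Matrix I8 I8 K := fun u => (co w u.1 * co w u.2.1) • matUnit e8 (R := K) u.2.2.1 u.2.2.2
  have h1 : (Mw w * J) * ((Mw w)ᵀ * J) = (compTerms.map f).sum := by
    rw [Mw, Matrix.transpose_list_sum, List.map_map, compTerms, sum_flatMap, ← List.sum_map_mul_right,
      ← List.sum_map_mul_right]
    refine congrArg List.sum (List.map_congr_left fun p hp => ?_)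
    rw [sum_flatMap, ← List.sum_map_mul_right, ← List.sum_map_mul_left]
    refine congrArg List.sum (List.map_congr_left fun q hq => ?_)
    rw [Function.comp_apply, Matrix.transpose_smul, transpose_matUnit, Matrix.smul_mul, Matrix.smul_mul,
      Matrix.smul_mul, matUnit_mul_J _ _ (Tlist_lt p hp).2.2, matUnit_mul_J _ _ (Tlist_lt q hq).2.1, Matrix.mul_smul, smul_smul, matUnit_mul]
    by_cases h : (p.2.2 + 4) % 8 = q.2.2
    · rw [if_pos ⟨h, Nat.mod_lt _ (by norm_num)⟩, if_pos h, List.map_singleton, List.sum_singleton]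
      simp only [f]
      congr 1
      rcases le_total p.1 q.1 with h' | h'
      · rw [min_eq_left h', max_eq_right h']
      · rw [min_eq_right h', max_eq_left h', mul_comm]
    · rw [if_neg (fun h' => h h'.1), if_neg h, smul_zero, List.map_nil, List.sum_nil]
  have h2 : Cfsg.quadFormPlus 4 K w • (1 : Matrix I8 I8 K) = (scalTerms.map f).sum := by
    rw [scalTerms, sum_flatMap, Cfsg.quadFormPlus, Finset.sum_smul]
    have hd : ∀ c : K, ((List.range 8).map fun d => c • matUnit e8 (R := K) d d).sum = c • (1 : Matrix I8 I8 K) :=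
      fun c => by rw [← sum_diag, List.smul_sum, List.map_map]; rfl
    simp only [List.map_map, f, Function.comp_def, hd]
    have he : ∀ a : Fin 4, (e8 (Sum.inl a) : ℕ) = a.val ∧ (e8 (Sum.inr a) : ℕ) = a.val + 4 := by decide +kernel
    simp only [← co_e8 w, (he _).1, (he _).2]
    simp [Fin.sum_univ_four, List.range, List.range.loop, add_assoc]
  rw [h1, h2]
  exact sum_eq_of_even (fun m => by ext i j; exact CharTwo.add_self_eq_zero _) _ _ f comp_ok

theorem Mw_det_ne {w : I8 → K} (hw : Cfsg.quadFormPlus 4 K w ≠ 0) : IsUnit (Mw w).det := by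
  have h := congrArg Matrix.det (Mw_comp w)
  rw [Matrix.det_smul, Matrix.det_one, mul_one, Matrix.det_mul, Matrix.det_mul] at h
  refine isUnit_iff_ne_zero.2 fun h0 => ?_
  rw [h0, zero_mul, zero_mul] at h
  exact pow_ne_zero _ hw h.symm

end Cfsg.Agent.Lie.TrialityForm
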