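import Cfsg.Agent.Lib.Lie.TrialityForm.Form
import Cfsg.Agent.Lib.Lie.TwistD4S
import Cfsg.Agent.Lib.Small.OInvolMatrix

/-!
The triality twisted group preserves the trilinear form twisted by squaring.
-/

set_option autoImplicit false
set_option maxRecDepth 100000
set_option linter.unusedSectionVars false

namespace Cfsg.Agent.Lie.TrialityForm

open Cfsg.Lie Matrix
open scoped MatrixGroups

variable {K : Type*} [Field K] [CharP K 2]

/-- Squaring all entries. -/
noncomputable def sq : Matrix I8 I8 K →+* Matrix I8 I8 K := (frobenius K 2).mapMatrix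

theorem sq_apply (A : Matrix I8 I8 K) (p q : I8) : sq A p q = A p q ^ 2 := rfl

theorem sq_matUnit (j k : ℕ) : sq (matUnit e8 (R := K) j k) = matUnit e8 j k := by
  ext p q
  rw [sq_apply, matUnit_apply]
  split_ifs <;> simp

theorem sq_root (r : ℕ) (t : K) : sq (1 + t • nil r : Matrix I8 I8 K) = 1 + t ^ 2 • nil r := by
  have hn : sq (nil r : Matrix I8 I8 K) = nil r := by
    rw [nil, map_list_sum, List.map_map]
    exact congrArg List.sum (List.map_congr_left fun p _ => sq_matUnit _ _)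
  rw [map_add, map_one]
  congr 1
  ext p q
  rw [sq_apply, Matrix.smul_apply, Matrix.smul_apply, smul_eq_mul, smul_eq_mul, mul_pow, ← sq_apply, hn]

theorem sq_J : sq (J : Matrix I8 I8 K) = J := by
  ext p q
  rw [sq_apply]
  simp only [J, Matrix.of_apply]
  split_ifs <;> simp

/-- The matrices preserving the twisted form. -/
def stab : Subgroup (GL I8 K) where
  carrier := {g | ∀ x y z, T (g.1 *ᵥ x) (sq g.1 *ᵥ y) (sq (sq g.1) *ᵥ z) = T x y z}
  one_mem' := fun x y z => by simp [map_one]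
  mul_mem' {a b} ha hb := fun x y z => by
    simp only [Units.val_mul, map_mul, ← Matrix.mulVec_mulVec]
    rw [ha, hb]
  inv_mem' {a} ha := fun x y z => by
    have h := ha (a⁻¹.1 *ᵥ x) (sq a⁻¹.1 *ᵥ y) (sq (sq a⁻¹.1) *ᵥ z)
    simp only [Matrix.mulVec_mulVec, ← map_mul, Units.mul_inv, map_one, Matrix.one_mulVec] at h
    exact h.symm

theorem root_mem {r : ℕ} (hr : r = 14 ∨ r = 9) {t : K} (ht : t ^ 2 = t) {g : GL I8 K}
    (hg : g.1 = 1 + t • nil r) : g ∈ stab := by
  intro x y z
  rw [hg, sq_root, ht, sq_root, ht]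
  exact T_root (by rcases hr with rfl | rfl <;> decide) t x y z

theorem triple_mem {r s u : ℕ}
    (h₁ : (r, u, s) ∈ triples) (h₂ : (s, r, u) ∈ triples) (h₃ : (u, s, r) ∈ triples)
    (hrs : (r, s) ∈ [(18,13),(18,12),(13,12),(5,10),(5,11),(10,11)])
    (hru : (r, u) ∈ [(18,13),(18,12),(13,12),(5,10),(5,11),(10,11)])
    (hsu : (s, u) ∈ [(18,13),(18,12),(13,12),(5,10),(5,11),(10,11)])
    {t : K} (ht : t ^ 8 = t) {g : GL I8 K}
    (hg : g.1 = (1 + t • nil r) * ((1 + t ^ 2 • nil s) * (1 + (t ^ 2) ^ 2 • nil u))) : g ∈ stab := by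
  intro x y z
  have h8 : ((t ^ 2) ^ 2) ^ 2 = t := by rw [← pow_mul, ← pow_mul]; exact ht
  rw [hg]
  simp only [map_mul, sq_root, h8]
  rw [root_comm hsu _ t, ← mul_assoc (1 + t ^ 2 • nil r : Matrix I8 I8 K), root_comm hru _ t, mul_assoc]
  rw [← mul_assoc (1 + (t ^ 2) ^ 2 • nil r : Matrix I8 I8 K), root_comm hrs _ t, mul_assoc, root_comm hru _ (t ^ 2)]
  simp only [← Matrix.mulVec_mulVec]
  rw [T_root h₁, T_root h₂, T_root h₃]

variable [Fintype K]

variable (K) in
theorem le_group : twistedD4 K 2 ≤ chevD4.group K := by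
  refine (Subgroup.closure_le _).2 ?_
  rintro g ⟨w, -, hg⟩
  rw [show g = factsD4.wg w from Units.ext (by rw [hg, factsD4.coe_wg]), Facts.wg]
  refine list_prod_mem fun x hx => ?_
  obtain ⟨p, -, rfl⟩ := List.mem_map.1 hx
  exact factsD4.xg_mem_group p.1 p.2

variable (K) in
/-- The representation of the twisted group. -/
noncomputable def rho : ↥(twistedD4 K 2) →* GL I8 K := (psi K).comp (Subgroup.inclusion (le_group K))

theorem rho_isometry (g : ↥(twistedD4 K 2)) :
    rho K g ∈ Cfsg.isometryGroup K (Cfsg.quadFormPlus 4 K) := psi_isometry K _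

theorem rho_stab (hK : Fintype.card K = 8) (g : ↥(twistedD4 K 2)) : rho K g ∈ stab := by
  let M : Subgroup ↥(chevD4.group K) := stab.comap (psi K)
  have h : twistedD4 K 2 ≤ M.map (chevD4.group K).subtype := by
    refine (Subgroup.closure_le _).2 ?_
    rintro g ⟨w, hw, hg⟩
    refine ⟨(w.map fun p => factsD4.xq p.1 p.2).prod, ?_, ?_⟩
    · show psi K _ ∈ stab
      rw [map_list_prod, List.map_map]
      rcases hw with ⟨t, ht, r, hr, rfl⟩ | ⟨t, rs, hrs, rfl⟩
      · simp only [List.mem_cons, List.not_mem_nil, or_false, d4p2, d4m2] at hr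
        simp only [List.map_cons, List.map_nil, List.prod_cons, List.prod_nil, mul_one, Function.comp_apply]
        exact root_mem hr ht (psi_x K r t)
      · simp only [List.map_cons, List.map_nil, List.prod_cons, List.prod_nil, mul_one, Function.comp_apply]
        have ht : t ^ 8 = t := hK ▸ FiniteField.pow_card t
        simp only [List.mem_cons, List.not_mem_nil, or_false] at hrs
        rcases hrs with rfl | rfl <;>
        · refine triple_mem ?_ ?_ ?_ ?_ ?_ ?_ ht
            (by rw [Units.val_mul, Units.val_mul, psi_x, psi_x, psi_x, show (2 : ℕ) ^ 2 = 2 * 2 by norm_num, pow_mul])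
          all_goals decide
    · rw [map_list_prod, List.map_map]
      exact (show g = factsD4.wg w from Units.ext (by rw [hg, factsD4.coe_wg])).symm
  obtain ⟨a, ha, hag⟩ := h g.2
  rw [show rho K g = psi K a from congrArg (psi K) (Subtype.ext hag.symm)]
  exact ha

theorem simple (hK : Fintype.card K = 8) :
    IsSimpleGroup ↥(twistedD4 K 2) ∧ ¬ IsMulCommutative ↥(twistedD4 K 2) := by
  obtain ⟨S⟩ := Cfsg.Agent.Lie.D4.nonempty_setup (K := K) Nat.prime_two.isPrimePow (by rw [hK]; norm_num)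
  exact S.simple

open Cfsg.Agent.Small in
theorem rho_rank_even (hK : Fintype.card K = 8) (g : ↥(twistedD4 K 2)) :
    Even ((rho K g).1 - 1).rank := by
  obtain ⟨hs, hn⟩ := simple (K := K) hK
  have hperf : commutator ↥(twistedD4 K 2) = ⊤ := by
    refine ((Subgroup.commutator_normal _ _).eq_bot_or_eq_top).resolve_left fun h => hn ⟨⟨fun a b => ?_⟩⟩
    rw [← commutatorElement_eq_one_iff_mul_comm, ← Subgroup.mem_bot, ← h]
    exact Subgroup.commutator_mem_commutator (Subgroup.mem_top a) (Subgroup.mem_top b)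
  have hq : Cfsg.quadFormPlus 4 K = ⇑(Orth.qPlus K 4) := (Cfsg.Agent.Classical.OOmega.coe_plus 4).symm
  let f : ↥(twistedD4 K 2) →* ↥(Cfsg.isometryGroup K ⇑(Orth.qPlus K 4)) :=
    (rho K).codRestrict _ fun x => hq ▸ rho_isometry x
  have h : f g ∈ Cfsg.Omega K ⇑(Orth.qPlus K 4) := by
    have h1 : (commutator ↥(twistedD4 K 2)).map f ≤ commutator _ := by
      rw [commutator_def, Subgroup.map_commutator]
      exact Subgroup.commutator_mono le_top le_top
    exact h1 ⟨g, hperf.symm ▸ Subgroup.mem_top g, rfl⟩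
  exact (OInvolMatrix.mem_omega_rank (Orth.qPlus_pnd K 4)
    (OInvolMatrix.gen (Orth.qPlus_pnd K 4) (Or.inl (by rw [Nat.card_eq_fintype_card, hK]; norm_num))) (f g)).1 h

theorem rho_injective (hK : Fintype.card K = 8) : Function.Injective (rho K) := by
  obtain ⟨hs, hn⟩ := simple (K := K) hK
  rw [← MonoidHom.ker_eq_bot_iff]
  refine ((rho K).normal_ker.eq_bot_or_eq_top).resolve_right fun h => ?_
  have hm : factsD4.xg 14 (1 : K) ∈ twistedD4 K 2 :=
    Cfsg.Agent.Lie.D4.Setup.A_mem (Classical.choice (Cfsg.Agent.Lie.D4.nonempty_setup (K := K)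
      Nat.prime_two.isPrimePow (by rw [hK]; norm_num))) (Or.inl rfl) (one_pow _)
  have h1 : (rho K ⟨_, hm⟩).1 = 1 := by rw [(rho K).mem_ker.1 (h ▸ Subgroup.mem_top _), Units.val_one]
  have h2 : (rho K ⟨_, hm⟩).1 = 1 + (1 : K) • nil 14 := psi_x K 14 1
  rw [h1, one_smul, left_eq_add] at h2
  have hs : supp 14 = [(1, 2), (6, 5)] := by decide +kernel
  have := congrArg (fun A : Matrix I8 I8 K => A (e8.symm ⟨1, by decide⟩) (e8.symm ⟨2, by decide⟩)) h2
  simp [nil, hs, matUnit_apply] at this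

end Cfsg.Agent.Lie.TrialityForm
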