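import Cfsg.Agent.Lib.Lie.RepD4
import Cfsg.Agent.Lib.Lie.LiftSteinberg
import Mathlib.Algebra.CharP.Two

/-!
The eight-dimensional representation of the group of type D4 in characteristic two.
-/

set_option autoImplicit false
set_option maxRecDepth 100000
set_option linter.unusedSectionVars false

namespace Cfsg.Agent.Lie.TrialityForm

open Cfsg.Lie Matrix
open scoped MatrixGroups

/-- The index type. -/
abbrev I8 : Type := Fin 4 ⊕ Fin 4

/-- The two places where a root operator differs from the identity. -/
def supp (r : ℕ) : List (ℕ × ℕ) :=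
  if r < 24 then
    (fun p : ℕ × ℕ × ℤ => [(p.1, (p.2.1 + 4) % 8), (p.2.1, (p.1 + 4) % 8)]) (d4Tab.getD r (0, 0, 0))
  else []

theorem supp_odd : ∀ r : Fin 24, (d4Tab.getD r.val (0, 0, 0)).2.2 = 1 ∨ (d4Tab.getD r.val (0, 0, 0)).2.2 = -1 := by
  decide +kernel

variable {K : Type*} [Field K] [CharP K 2]

/-- A root operator as a matrix. -/
noncomputable def nil (r : ℕ) : Matrix I8 I8 K :=
  ((supp r).map fun p => matUnit e8 (R := K) p.1 p.2).sum

theorem mat_eq (r : ℕ) (t : K) : d4Rep.mat e8 K r t = 1 + t • nil r := by
  unfold SRep.mat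
  congr 1
  by_cases hr : r < 24
  · have h := supp_odd ⟨r, hr⟩
    simp only [d4Rep, supp, nil, if_pos hr, List.map_cons, List.map_nil, evL_cons, evL_nil, Tm.ev, pow_one,
      pow_zero, mul_one, add_zero, List.sum_cons, List.sum_nil, smul_add, Int.cast_neg]
    rcases h with h | h <;> simp only at h <;> rw [h] <;> simp [CharTwo.neg_eq]
  · simp [d4Rep, supp, nil, if_neg hr]

variable (K)

theorem hyp : StHyp chevD4 := stHyp_of_mem (by simp)

/-- The representation. -/
theorem exists_psi : ∃ ψ : ↥(chevD4.group K) →* GL I8 K,
    ∀ r t, (ψ (factsD4.xq r t)).1 = 1 + t • nil r := by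
  have hout : ∀ r, chevD4.nroots ≤ r → d4Rep.ent r = [] := fun r hr => if_neg (not_lt.2 hr)
  obtain ⟨φ, hφ, -⟩ := SRep.exists_hom (e := e8) (F := K) d4Rep_ok (fun r hr => factsD4.neg_lt hr) hout
  refine ⟨MonoidHom.liftOfSurjective (factsD4.projQ K) factsD4.projQ_surjective ⟨φ, fun z hz => ?_⟩, fun r t => ?_⟩
  · rw [factsD4.projQ_ker, factsD4.ker_eq_center hyp hyp.2.2] at hz
    rw [MonoidHom.mem_ker]
    have hcomm : ∀ r, Commute (nil r) (φ z).1 := by
      intro r
      have h := congrArg Units.val (congrArg φ (Subgroup.mem_center_iff.1 hz (chevD4.stGen K r 1)))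
      rw [map_mul, map_mul, Units.val_mul, Units.val_mul, hφ, mat_eq, one_smul, add_mul, one_mul, mul_add, mul_one,
        add_right_inj] at h
      exact h
    have hpair : ∀ i j : Fin 8, i ≠ j → ∃ r s : Fin 24, ((supp r.val).flatMap fun a =>
        (supp s.val).flatMap fun b => if a.2 = b.1 then [(a.1, b.2)] else []) = [(i.val, j.val)] := by
      decide +kernel
    have hmu : ∀ i j : I8, matUnit e8 (R := K) (e8 i).val (e8 j).val = Matrix.single i j 1 := by
      intro i j
      ext p q
      rw [matUnit_apply, Matrix.single_apply]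
      exact if_congr (by simp [Fin.val_inj, eq_comm]) rfl rfl
    obtain ⟨c, hc⟩ : (φ z).1 ∈ Set.range (Matrix.scalar I8) := by
      refine Matrix.mem_range_scalar_of_commute_single fun i j hij => ?_
      obtain ⟨r, s, hrs⟩ := hpair (e8 i) (e8 j) (fun h => hij (e8.injective h))
      have hprod : (nil r.val : Matrix I8 I8 K) * nil s.val = Matrix.single i j 1 := by
        rw [← hmu, nil, nil]
        have key : ∀ A B : List (ℕ × ℕ), (∀ b ∈ B, b.1 < 8) →
            (A.map fun p => matUnit e8 (R := K) p.1 p.2).sum * (B.map fun p => matUnit e8 (R := K) p.1 p.2).sum =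
              ((A.flatMap fun a => B.flatMap fun b => if a.2 = b.1 then [(a.1, b.2)] else []).map
                fun p => matUnit e8 (R := K) p.1 p.2).sum := by
          intro A B hB
          induction A with
          | nil => simp
          | cons a A ih =>
            rw [List.map_cons, List.sum_cons, add_mul, ih, List.flatMap_cons, List.map_append, List.sum_append]
            congr 1
            clear ih
            induction B with
            | nil => simp
            | cons b B ihB =>
              rw [List.map_cons, List.sum_cons, mul_add, ihB (fun x hx => hB x (List.mem_cons_of_mem _ hx)),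
                List.flatMap_cons, List.map_append, List.sum_append, matUnit_mul]
              congr 1
              have hb : b.1 < 8 := hB b (List.mem_cons_self ..)
              by_cases hab : a.2 = b.1
              · rw [if_pos ⟨hab, by rw [hab]; exact hb⟩, if_pos hab, List.map_singleton, List.sum_singleton]
              · rw [if_neg (fun h => hab h.1), if_neg hab, List.map_nil, List.sum_nil]
        rw [key, hrs]
        · simp
        · exact (by decide +kernel : ∀ s : Fin 24, ∀ b ∈ supp s.val, b.1 < 8) s
      rw [← hprod]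
      exact (hcomm r.val).mul_left (hcomm s.val)
    have hdet : (φ z).1.det = 1 := by
      have hmem : ∀ x, x ∈ Subgroup.closure (Set.range fun p : Fin chevD4.nroots × K =>
          chevD4.stGen K p.1.val p.2) → (φ x).1.det = 1 := by
        intro x hx
        induction hx using Subgroup.closure_induction with
        | one => rw [map_one, Units.val_one, Matrix.det_one]
        | mul a b _ _ ha hb => rw [map_mul, Units.val_mul, Matrix.det_mul, ha, hb, one_mul]
        | inv a _ ha =>
          have h0 := congrArg Units.val (congrArg φ (mul_inv_cancel a))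
          rw [map_mul, map_one, Units.val_mul, Units.val_one] at h0
          have h1 := congrArg Matrix.det h0
          rw [Matrix.det_mul, ha, one_mul, Matrix.det_one] at h1
          exact h1
        | mem y hy =>
          obtain ⟨⟨r, t⟩, rfl⟩ := hy
          have h2 : (φ (chevD4.stGen K r.val t)).1 * (φ (chevD4.stGen K r.val t)).1 = 1 := by
            rw [hφ, mat_eq]
            have hN : (nil r.val : Matrix I8 I8 K) * nil r.val = 0 := by
              have hs : ∀ r : Fin 24, ∀ a ∈ supp r.val, ∀ b ∈ supp r.val, a.2 ≠ b.1 := by decide +kernel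
              rw [nil, ← List.sum_map_mul_right]
              refine List.sum_eq_zero fun M hM => ?_
              obtain ⟨a, ha, rfl⟩ := List.mem_map.1 hM
              rw [← List.sum_map_mul_left]
              refine List.sum_eq_zero fun M hM => ?_
              obtain ⟨b, hb, rfl⟩ := List.mem_map.1 hM
              rw [matUnit_mul]
              rw [if_neg (fun h => hs r a ha b hb h.1)]
            rw [add_mul, one_mul, mul_add, mul_one, smul_mul_smul_comm, hN, smul_zero, add_zero, add_assoc,
              ← add_smul, CharTwo.add_self_eq_zero, zero_smul, add_zero]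
          have h3 := congrArg Matrix.det h2
          rw [Matrix.det_mul, Matrix.det_one] at h3
          rcases mul_self_eq_one_iff.1 h3 with h | h
          · exact h
          · rw [h, CharTwo.neg_eq]
      exact hmem z (by rw [stGen_closure factsD4]; exact Subgroup.mem_top z)
    rw [← hc, Matrix.scalar_apply, Matrix.det_diagonal, Finset.prod_const, Finset.card_univ] at hdet
    have h8 : c ^ 8 = 1 := by simpa using hdet
    have hc1 : c = 1 := by
      have h0 : (c + 1) ^ 2 ^ 3 = 0 := by
        rw [add_pow_char_pow, one_pow, show (2 : ℕ) ^ 3 = 8 by norm_num, h8, CharTwo.add_self_eq_zero]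
      have := eq_zero_of_pow_eq_zero h0
      rwa [← CharTwo.sub_eq_add, sub_eq_zero] at this
    refine Units.ext ?_
    rw [← hc, hc1, map_one, Units.val_one]
  · rw [← factsD4.projQ_x, MonoidHom.liftOfSurjective, MonoidHom.liftOfRightInverse_comp_apply, hφ, mat_eq]

/-- The representation. -/
noncomputable def psi : ↥(chevD4.group K) →* GL I8 K := Classical.choose (exists_psi K)

theorem psi_x (r : ℕ) (t : K) : (psi K (factsD4.xq r t)).1 = 1 + t • nil r :=
  Classical.choose_spec (exists_psi K) r t

theorem psi_isometry (g : ↥(chevD4.group K)) :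
    psi K g ∈ Cfsg.isometryGroup K (Cfsg.quadFormPlus 4 K) := by
  obtain ⟨g, rfl⟩ := factsD4.projQ_surjective g
  have h : (⊤ : Subgroup (chevD4.SteinbergGroup K)) ≤
      (Cfsg.isometryGroup K (Cfsg.quadFormPlus 4 K)).comap ((psi K).comp (factsD4.projQ K)) := by
    rw [← stGen_closure factsD4, Subgroup.closure_le]
    rintro _ ⟨⟨r, t⟩, rfl⟩
    rw [SetLike.mem_coe, Subgroup.mem_comap, MonoidHom.comp_apply, factsD4.projQ_x]
    intro v _
    show Cfsg.quadFormPlus 4 K ((psi K (factsD4.xq r.val t)).1 *ᵥ v) = Cfsg.quadFormPlus 4 K v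
    rw [psi_x, ← mat_eq]
    obtain ⟨a, b, ha, hb⟩ := d4Tab_exists r
    obtain ⟨-, -, hab, hab'⟩ := d4Tab_spec r a b ha hb
    rw [d4Rep_act ha hb]
    exact PlusGen.quad_sel hab hab' _ _
  exact h (Subgroup.mem_top g)

end Cfsg.Agent.Lie.TrialityForm
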