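import Cfsg.Agent.Lib.Lie.TrialityForm.Structure
import Cfsg.Agent.Lib.Lie.TwistD4H
import Cfsg.Agent.Lib.Lie.TwistD4W
import Cfsg.Agent.Lib.Lie.FibrePower
import Mathlib.GroupTheory.SemidirectProduct

/-!
The split extension of the natural module by the triality group has no new element orders.
-/

set_option autoImplicit false
set_option maxRecDepth 100000
set_option linter.unusedSectionVars false

namespace Cfsg.Agent.Lie.TrialityForm

open Matrix Module
open scoped MatrixGroups

variable {K : Type*} [Field K] [CharP K 2]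

theorem rank_mul_lt {n B : Matrix I8 I8 K} {k : ℕ} (hn : n ^ k = 0) (hB : B ≠ 0) (hc : Commute n B) :
    (n * B).rank < B.rank := by
  by_contra h
  have hsub : LinearMap.range (n * B).mulVecLin ≤ LinearMap.range B.mulVecLin := by
    rintro _ ⟨v, rfl⟩
    exact ⟨n *ᵥ v, by rw [Matrix.mulVecLin_apply, Matrix.mulVecLin_apply, Matrix.mulVec_mulVec, hc.eq]⟩
  have he : LinearMap.range (n * B).mulVecLin = LinearMap.range B.mulVecLin :=
    Submodule.eq_of_le_of_finrank_le hsub (not_lt.1 h)
  have hj : ∀ j : ℕ, ∀ v, ∃ w, B *ᵥ v = (n ^ j * B) *ᵥ w := by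
    intro j
    induction j with
    | zero => exact fun v => ⟨v, by rw [pow_zero, one_mul]⟩
    | succ j ih =>
      intro v
      obtain ⟨w, hw⟩ := ih v
      have hmem : B *ᵥ w ∈ LinearMap.range (n * B).mulVecLin := he ▸ ⟨w, rfl⟩
      obtain ⟨w', hw'⟩ := hmem
      rw [Matrix.mulVecLin_apply] at hw'
      exact ⟨w', by rw [hw, pow_succ, mul_assoc, ← Matrix.mulVec_mulVec, ← hw', Matrix.mulVec_mulVec]⟩
  refine hB (Matrix.ext_of_mulVec_single fun q => ?_)
  obtain ⟨w, hw⟩ := hj k (Pi.single q 1)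
  rw [hw, hn, zero_mul, Matrix.zero_mulVec, Matrix.zero_mulVec]

theorem pow_mul_eq_zero {n B : Matrix I8 I8 K} {k : ℕ} (hn : n ^ k = 0) (hc : Commute n B) {i : ℕ}
    (hi : B.rank ≤ i) : n ^ i * B = 0 := by
  induction i generalizing B with
  | zero =>
    by_contra h
    rw [pow_zero, one_mul] at h
    have := rank_mul_lt hn h hc
    omega
  | succ i ih =>
    by_cases h : B = 0
    · rw [h, mul_zero]
    rw [pow_succ, mul_assoc]
    exact ih ((Commute.refl n).mul_right hc) (by have := rank_mul_lt hn h hc; omega)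

theorem geom_two_pow {R : Type*} [Ring R] [CharP R 2] (x : R) (e : ℕ) :
    ∑ i ∈ Finset.range (2 ^ e), x ^ i = (x - 1) ^ (2 ^ e - 1) := by
  induction e with
  | zero => simp
  | succ e ih =>
    have hp : 0 < 2 ^ e := Nat.two_pow_pos e
    rw [pow_succ, mul_two, Finset.sum_range_add]
    simp only [pow_add, ← Finset.mul_sum]
    rw [ih]
    calc (x - 1) ^ (2 ^ e - 1) + x ^ 2 ^ e * (x - 1) ^ (2 ^ e - 1)
        = (x ^ 2 ^ e - 1) * (x - 1) ^ (2 ^ e - 1) := by
          rw [CharTwo.sub_eq_add (x ^ 2 ^ e), add_mul, one_mul, add_comm]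
      _ = (x - 1) ^ 2 ^ e * (x - 1) ^ (2 ^ e - 1) := by
          rw [sub_pow_char_pow_of_commute _ _ (Commute.one_right x), one_pow]
      _ = (x - 1) ^ (2 ^ e + 2 ^ e - 1) := by rw [← pow_add]; congr 1; omega

theorem geom_periodic {R : Type*} [Semiring R] (x : R) {p : ℕ} (hx : x ^ p = 1) (o : ℕ) :
    ∑ i ∈ Finset.range (p * o), x ^ i = o • ∑ i ∈ Finset.range p, x ^ i := by
  induction o with
  | zero => simp
  | succ o ih =>
    rw [Nat.mul_succ, Finset.sum_range_add, ih, succ_nsmul]
    simp only [pow_add, pow_mul, hx, one_pow, one_mul]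

/-- The sum of the powers, for an element split into commuting parts. -/
theorem sum_powers {o e : ℕ} (ho : Odd o) {G C U : Matrix I8 I8 K} {a : ℕ} (hG : G ^ (o * 2 ^ e) = 1)
    (hCG : C = G ^ a) (hC : C ^ o = 1) (hU : U ^ 2 ^ e = 1) (hCU : Commute C U) (hmul : G = C * U) :
    ∑ i ∈ Finset.range (o * 2 ^ e), G ^ i = (U - 1) ^ (2 ^ e - 1) * proj o C := by
  set S := ∑ i ∈ Finset.range (o * 2 ^ e), G ^ i with hS
  have hSG : S * G = S := by
    have h : S * (G - 1) = 0 := by rw [hS, geom_sum_mul, hG, sub_self]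
    rwa [mul_sub, mul_one, sub_eq_zero] at h
  have hSC : S * (C - 1) = 0 := by
    have : ∀ j, S * G ^ j = S := fun j => by
      induction j with
      | zero => rw [pow_zero, mul_one]
      | succ j ih => rw [pow_succ, ← mul_assoc, ih, hSG]
    rw [hCG, mul_sub, this, mul_one, sub_self]
  obtain ⟨Q, hQ⟩ := one_eq ho hC
  have h1 : S = S * proj o C := by
    conv_lhs => rw [← mul_one S, hQ, mul_add, ← mul_assoc, hSC, zero_mul, add_zero]
  have hUP : Commute U (proj o C) := Commute.sum_right _ _ _ fun i _ => hCU.symm.pow_right i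
  have h2 : ∀ i, G ^ i * proj o C = U ^ i * proj o C := fun i => by
    rw [hmul, hCU.mul_pow, (hCU.pow_pow i i).eq, mul_assoc, pow_mul_proj ho hC]
  haveI : CharP (Matrix I8 I8 K) 2 := Matrix.charP 2
  rw [h1, hS, Finset.sum_mul, Finset.sum_congr rfl (fun i _ => h2 i), ← Finset.sum_mul, mul_comm o,
    geom_periodic U hU, odd_smul ho, geom_two_pow]

theorem rank_split {o e : ℕ} (ho : Odd o) {G C U : Matrix I8 I8 K} {a b : ℕ}
    (hCG : C = G ^ a) (hUG : U = G ^ b) (hC : C ^ o = 1) (hCU : Commute C U) (hmul : G = C * U) :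
    (G - 1).rank + (proj o C).rank = ((U - 1) * proj o C).rank + 8 := by
  set P := proj o C with hP
  have hfix : ∀ v, G *ᵥ v = v → ∀ j, G ^ j *ᵥ v = v := fun v h j => by
    induction j with
    | zero => rw [pow_zero, Matrix.one_mulVec]
    | succ j ih => rw [pow_succ, ← Matrix.mulVec_mulVec, h, ih]
  have hk : LinearMap.ker ((U - 1) * P).mulVecLin = LinearMap.ker (G - 1).mulVecLin ⊔ LinearMap.ker P.mulVecLin := by
    refine le_antisymm (fun v hv => ?_) (sup_le (fun v hv => ?_) fun v hv => ?_)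
    · rw [LinearMap.mem_ker, Matrix.mulVecLin_apply, ← Matrix.mulVec_mulVec, Matrix.sub_mulVec, Matrix.one_mulVec,
        sub_eq_zero] at hv
      rw [show v = P *ᵥ v + (v - P *ᵥ v) by abel]
      refine Submodule.add_mem_sup ?_ ?_
      · rw [LinearMap.mem_ker, Matrix.mulVecLin_apply, Matrix.sub_mulVec, Matrix.one_mulVec, sub_eq_zero, hmul,
          ← Matrix.mulVec_mulVec, hv, Matrix.mulVec_mulVec, mul_proj ho hC]
      · rw [LinearMap.mem_ker, Matrix.mulVecLin_apply, Matrix.mulVec_sub, Matrix.mulVec_mulVec, proj_idem ho hC,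
          sub_self]
    · rw [LinearMap.mem_ker, Matrix.mulVecLin_apply, Matrix.sub_mulVec, Matrix.one_mulVec, sub_eq_zero] at hv
      have hv1 : C *ᵥ v = v := hCG ▸ hfix v hv a
      have hv2 : U *ᵥ v = v := hUG ▸ hfix v hv b
      rw [LinearMap.mem_ker, Matrix.mulVecLin_apply, ← Matrix.mulVec_mulVec, (fix_iff ho hC v).1 hv1,
        Matrix.sub_mulVec, Matrix.one_mulVec, hv2, sub_self]
    · rw [LinearMap.mem_ker, Matrix.mulVecLin_apply] at hv ⊢
      rw [← Matrix.mulVec_mulVec, hv, Matrix.mulVec_zero]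
  have hinf : LinearMap.ker (G - 1).mulVecLin ⊓ LinearMap.ker P.mulVecLin = ⊥ := by
    refine (Submodule.eq_bot_iff _).2 fun v hv => ?_
    obtain ⟨h1, h2⟩ := Submodule.mem_inf.1 hv
    rw [LinearMap.mem_ker, Matrix.mulVecLin_apply] at h1 h2
    rw [Matrix.sub_mulVec, Matrix.one_mulVec, sub_eq_zero] at h1
    rw [← (fix_iff ho hC v).1 (hCG ▸ hfix v h1 a), h2]
  have hd := Submodule.finrank_sup_add_finrank_inf_eq (LinearMap.ker (G - 1).mulVecLin) (LinearMap.ker P.mulVecLin)
  rw [hinf, finrank_bot, add_zero, ← hk] at hd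
  have h1 := (G - 1).mulVecLin.finrank_range_add_finrank_ker
  have h2 := P.mulVecLin.finrank_range_add_finrank_ker
  have h3 := ((U - 1) * P).mulVecLin.finrank_range_add_finrank_ker
  simp only [finrank_fintype_fun_eq_card, Fintype.card_sum, Fintype.card_fin] at h1 h2 h3
  unfold Matrix.rank
  omega

variable [Fintype K]

theorem good {o : ℕ} (ho : Odd o) (hK : Fintype.card K = 8) (s : ↥(Cfsg.Lie.twistedD4 K 2)) (hs : s ^ o = 1) :
    Good o (rho K s).1 :=
  { ho := ho
    hC := by rw [← Units.val_pow_eq_pow_val, ← map_pow, hs, map_one, Units.val_one]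
    iso := fun v => rho_isometry s v v
    inv := rho_stab hK s }

theorem odd_order_dvd (hK : Fintype.card K = 8) {o : ℕ} (ho : Odd o) (s : ↥(Cfsg.Lie.twistedD4 K 2))
    (hs : orderOf s = o) : o ∣ 51597 := by
  obtain ⟨S⟩ := Cfsg.Agent.Lie.D4.nonempty_setup (K := K) Nat.prime_two.isPrimePow (by rw [hK]; norm_num)
  have h := orderOf_dvd_natCard s
  rw [hs, S.card_group] at h
  refine ((ho.coprime_two_right).pow_right 12).dvd_of_dvd_mul_left ?_
  convert h using 1
  norm_num

/-- An element with nonvanishing sum of powers has twice its order among the element orders. -/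
theorem double_order (hK : Fintype.card K = 8)
    (hex : ∀ n ∈ [8, 12, 18, 28], ∃ h : ↥(Cfsg.Lie.twistedD4 K 2), orderOf h = n)
    (g : ↥(Cfsg.Lie.twistedD4 K 2))
    (hN : ∑ i ∈ Finset.range (orderOf g), (rho K g).1 ^ i ≠ 0) :
    ∃ h : ↥(Cfsg.Lie.twistedD4 K 2), orderOf h = 2 * orderOf g := by
  obtain ⟨e, o, ho, hm⟩ := Nat.exists_eq_two_pow_mul_odd (orderOf_pos g).ne'
  rw [mul_comm] at hm
  have hco : Nat.Coprime o (2 ^ e) := (ho.coprime_two_right).pow_right e
  obtain ⟨a, ha1, ha2⟩ := Nat.chineseRemainder hco 1 0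
  have hpos : 0 < 2 ^ e := Nat.two_pow_pos e
  obtain ⟨b, hb1, hb2⟩ := Nat.chineseRemainder hco 0 1
  set s := g ^ a with hsdef
  set u := g ^ b with hudef
  have hg : g = s * u := by
    rw [hsdef, hudef, ← pow_add]
    conv_lhs => rw [← pow_one g]
    rw [pow_eq_pow_iff_modEq, hm]
    exact (Nat.modEq_and_modEq_iff_modEq_mul hco).1 ⟨(ha1.add hb1).symm, by simpa using (ha2.add hb2).symm⟩
  have hs : s ^ o = 1 := by
    rw [hsdef, ← pow_mul, ← orderOf_dvd_iff_pow_eq_one, hm, mul_comm a o]
    exact Nat.mul_dvd_mul_left o (Nat.modEq_zero_iff_dvd.1 ha2)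
  have hu : u ^ 2 ^ e = 1 := by
    rw [hudef, ← pow_mul, ← orderOf_dvd_iff_pow_eq_one, hm, mul_comm o]
    rw [mul_comm b]
    exact Nat.mul_dvd_mul_left _ (Nat.modEq_zero_iff_dvd.1 hb1)
  have hso : orderOf s = o := by
    refine Nat.dvd_antisymm (orderOf_dvd_of_pow_eq_one hs) ?_
    have h : g ^ (orderOf s * 2 ^ e) = 1 := by
      rw [hg, (Commute.pow_pow (Commute.refl g) a b).mul_pow, pow_mul, pow_orderOf_eq_one, one_pow, one_mul,
        mul_comm (orderOf s), pow_mul, hu, one_pow]
    rw [← orderOf_dvd_iff_pow_eq_one, hm] at h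
    exact Nat.dvd_of_mul_dvd_mul_right hpos h
  set G : Matrix I8 I8 K := (rho K g).1 with hG
  set C : Matrix I8 I8 K := (rho K s).1 with hCd
  set U : Matrix I8 I8 K := (rho K u).1 with hUd
  have hCG : C = G ^ a := by rw [hCd, hsdef, map_pow, Units.val_pow_eq_pow_val]
  have hUG : U = G ^ b := by rw [hUd, hudef, map_pow, Units.val_pow_eq_pow_val]
  have hC : C ^ o = 1 := (good ho hK s hs).hC
  have hU : U ^ 2 ^ e = 1 := by rw [hUd, ← Units.val_pow_eq_pow_val, ← map_pow, hu, map_one, Units.val_one]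
  have hCU : Commute C U := hCG ▸ hUG ▸ Commute.pow_pow (Commute.refl G) a b
  have hmul : G = C * U := by rw [hG, hCd, hUd, ← Units.val_mul, ← map_mul, ← hg]
  have hGn : G ^ (o * 2 ^ e) = 1 := by
    rw [hG, ← hm, ← Units.val_pow_eq_pow_val, ← map_pow, pow_orderOf_eq_one, map_one, Units.val_one]
  rw [hm, sum_powers ho hGn hCG hC hU hCU hmul] at hN
  set P := proj o C with hPdef
  set n := U - 1 with hn
  have hP0 : P ≠ 0 := fun h => hN (by rw [h, mul_zero])
  haveI : CharP (Matrix I8 I8 K) 2 := Matrix.charP 2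
  have hnil : n ^ 2 ^ e = 0 := by
    rw [hn, sub_pow_char_pow_of_commute _ _ (Commute.one_right U), hU, one_pow, sub_self]
  have hnP : Commute n P :=
    Commute.sum_right _ _ _ fun i _ => ((hCU.symm.sub_left (Commute.one_left C)).pow_right i)
  have hr := rank_split ho hCG hUG hC hCU hmul (e := e)
  have hr1 : Even (G - 1).rank := rho_rank_even hK g
  have hr2 : Even (C - 1).rank := rho_rank_even hK s
  have hr3 := rank_compl ho hC
  have hr4 : (n * P).rank < P.rank := rank_mul_lt hnil hP0 hnP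
  rw [← hn, ← hPdef] at hr
  rw [← hPdef] at hr3
  rw [Nat.even_iff] at hr1 hr2
  obtain ⟨d, hd, hCd1, hle⟩ := (good ho hK s hs).spectrum (odd_order_dvd hK ho s hso) hP0
  have hod : o ∣ d := by
    rw [← hso]
    refine orderOf_dvd_of_pow_eq_one (rho_injective hK ?_)
    rw [map_pow, map_one]
    exact Units.ext (by rw [Units.val_pow_eq_pow_val, Units.val_one]; exact hCd1)
  have kill : ∀ i, (n * P).rank ≤ i → i + 1 ≤ 2 ^ e - 1 → False := by
    intro i h1 h2
    refine hN ?_
    rw [← Nat.sub_add_cancel h2, pow_add, mul_assoc, pow_succ, mul_assoc,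
      pow_mul_eq_zero hnil ((Commute.refl n).mul_right hnP) h1, mul_zero]
  have hex' : ∀ k n, n ∈ [8, 12, 18, 28] → 0 < k → ∃ h : ↥(Cfsg.Lie.twistedD4 K 2), orderOf h = n / Nat.gcd n k := by
    intro k n hn hk
    obtain ⟨h, hh⟩ := hex n hn
    exact ⟨h ^ k, by rw [orderOf_pow' h hk.ne', hh]⟩
  rw [hm]
  have he : 4 ≤ e → 16 ≤ 2 ^ e := fun h => (Nat.pow_le_pow_right two_pos h : 2 ^ 4 ≤ 2 ^ e)
  obtain rfl | rfl | rfl | rfl : o = 1 ∨ o = 3 ∨ o = 7 ∨ o = 9 := by
    have hd9 : d ∈ Nat.divisors 63 := (by decide +kernel : ∀ d ∈ [1, 3, 7, 9], d ∈ Nat.divisors 63) d hd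
    have h : o ∈ Nat.divisors d := Nat.mem_divisors.2 ⟨hod, (Nat.pos_of_mem_divisors hd9).ne'⟩
    revert h
    revert d
    simp only [List.mem_cons, List.not_mem_nil, or_false]
    rintro d (rfl | rfl | rfl | rfl) <;>
      simp [show Nat.divisors 3 = {1, 3} from rfl, show Nat.divisors 7 = {1, 7} from rfl,
        show Nat.divisors 9 = {1, 3, 9} from rfl] <;> omega
  · have h6 : (n * P).rank ≤ 6 := by omega
    rcases lt_or_ge e 3 with h3 | h3
    · interval_cases e
      · simpa using hex' 4 8 (by simp) (by norm_num)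
      · simpa using hex' 2 8 (by simp) (by norm_num)
      · simpa using hex' 1 8 (by simp) (by norm_num)
    · exact (kill 6 h6 (by have : 2 ^ 3 ≤ 2 ^ e := Nat.pow_le_pow_right two_pos h3; omega)).elim
  · have hC1 : C ≠ 1 := fun h => by
      have : s = 1 := rho_injective hK (by rw [map_one]; exact Units.ext h)
      rw [this, orderOf_one] at hso
      omega
    have h0 : (C - 1).rank ≠ 0 := fun h => hC1 (by
      rw [Matrix.rank, Submodule.finrank_eq_zero, LinearMap.range_eq_bot] at h
      exact sub_eq_zero.1 (Matrix.ext_of_mulVec_single fun q => by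
        rw [← Matrix.mulVecLin_apply, h, LinearMap.zero_apply, Matrix.zero_mulVec]))
    have h2 := (good ho hK s hs).rank_ne_two
    rw [← hCd] at h2
    have h6 : (n * P).rank ≤ 2 := by omega
    rcases lt_or_ge e 2 with h3 | h3
    · interval_cases e
      · simpa using hex' 2 12 (by simp) (by norm_num)
      · simpa using hex' 1 12 (by simp) (by norm_num)
    · exact (kill 2 h6 (by have : 2 ^ 2 ≤ 2 ^ e := Nat.pow_le_pow_right two_pos h3; omega)).elim
  all_goals
    have hd79 : d = 7 ∨ d = 9 := by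
      simp only [List.mem_cons, List.not_mem_nil, or_false] at hd
      rcases hd with rfl | rfl | rfl | rfl <;> omega
    have h6 : (n * P).rank ≤ 0 := by
      have := hle hd79
      rw [← hPdef] at this
      omega
    obtain rfl | he0 := e.eq_zero_or_pos
  · simpa using hex' 2 28 (by simp) (by norm_num)
  · refine (hN ?_).elim
    have hp : 2 ≤ 2 ^ e := Nat.le_self_pow he0.ne' 2
    rw [show 2 ^ e - 1 = (2 ^ e - 2) + 1 by omega, pow_succ, mul_assoc,
      show n * P = 0 by simpa using pow_mul_eq_zero hnil ((Commute.refl n).mul_right hnP) h6, mul_zero]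
  · simpa using hex' 1 18 (by simp) (by norm_num)
  · refine (hN ?_).elim
    have hp : 2 ≤ 2 ^ e := Nat.le_self_pow he0.ne' 2
    rw [show 2 ^ e - 1 = (2 ^ e - 2) + 1 by omega, pow_succ, mul_assoc,
      show n * P = 0 by simpa using pow_mul_eq_zero hnil ((Commute.refl n).mul_right hnP) h6, mul_zero]

/-- The action on the module. -/
noncomputable def act (K : Type*) [Field K] [CharP K 2] [Fintype K] :
    ↥(Cfsg.Lie.twistedD4 K 2) →* MulAut (Multiplicative (I8 → K)) where
  toFun g :=
    { toFun := fun v => Multiplicative.ofAdd ((rho K g).1 *ᵥ v.toAdd)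
      invFun := fun v => Multiplicative.ofAdd ((rho K g⁻¹).1 *ᵥ v.toAdd)
      left_inv := fun v => by
        simp [Matrix.mulVec_mulVec, ← Units.val_mul, ← map_mul]
      right_inv := fun v => by
        simp [Matrix.mulVec_mulVec, ← Units.val_mul, ← map_mul]
      map_mul' := fun v w => by simp [Matrix.mulVec_add] }
  map_one' := MulEquiv.ext fun v => by simp
  map_mul' g h := MulEquiv.ext fun v => by simp [Matrix.mulVec_mulVec]

/-- The split extension. -/
abbrev Ext (K : Type*) [Field K] [CharP K 2] [Fintype K] : Type _ :=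
  Multiplicative (I8 → K) ⋊[act K] ↥(Cfsg.Lie.twistedD4 K 2)

theorem act_apply (g : ↥(Cfsg.Lie.twistedD4 K 2)) (v : Multiplicative (I8 → K)) :
    (act K g v).toAdd = (rho K g).1 *ᵥ v.toAdd := rfl

theorem pow_left (x : Ext K) (n : ℕ) :
    (x ^ n).left.toAdd = (∑ i ∈ Finset.range n, (rho K x.right).1 ^ i) *ᵥ x.left.toAdd := by
  induction n with
  | zero => simp
  | succ n ih =>
    rw [pow_succ, SemidirectProduct.mul_left, toAdd_mul, act_apply, ih, Finset.sum_range_succ, Matrix.add_mulVec]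
    congr 1
    have hr : (x ^ n).right = x.right ^ n := map_pow SemidirectProduct.rightHom x n
    rw [hr, map_pow, Units.val_pow_eq_pow_val]

/-- Arbitrarily large groups with the same element orders. -/
theorem exists_large (hK : Fintype.card K = 8)
    (hex : ∀ n ∈ [8, 12, 18, 28], ∃ h : ↥(Cfsg.Lie.twistedD4 K 2), orderOf h = n) (N : ℕ) :
    ∃ (H : Type) (_ : Group H) (_ : Fintype H), N < Fintype.card H ∧
      Set.range (orderOf : H → ℕ) = Set.range (orderOf : Cfsg.Lie.twistedD4 K 2 → ℕ) := by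
  classical
  haveI : Finite (Ext K) := Finite.of_equiv _ SemidirectProduct.equivProd.symm
  let V : Subgroup (Ext K) := (SemidirectProduct.rightHom (φ := act K)).ker
  have hexp : ∀ x ∈ V, x ^ 2 = 1 := by
    intro x hx
    have hr : x.right = 1 := hx
    refine SemidirectProduct.ext ?_ ?_
    · apply Multiplicative.toAdd.injective
      rw [pow_left, hr]
      simp [CharTwo.two_eq_zero]
    · rw [show (x ^ 2).right = x.right ^ 2 from map_pow SemidirectProduct.rightHom x 2, hr]
      simp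
  have hV : V ≠ ⊥ := by
    intro h
    have h1 : (SemidirectProduct.inl (φ := act K) (Multiplicative.ofAdd (fun _ => (1 : K)))) ∈ V :=
      SemidirectProduct.rightHom_inl _
    rw [h, Subgroup.mem_bot, ← map_one SemidirectProduct.inl] at h1
    exact one_ne_zero (congrFun (congrArg Multiplicative.toAdd (SemidirectProduct.inl_injective h1)) (Sum.inl 0))
  obtain ⟨H, i1, i2, h1, h2⟩ := Cfsg.Agent.Lie.exists_large_isospectral V hV Nat.prime_two hexp N
  refine ⟨H, i1, i2, h1, h2.trans (Set.ext fun d => ⟨?_, ?_⟩)⟩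
  · rintro ⟨x, rfl⟩
    set m := orderOf x.right with hm
    have hdvd : m ∣ orderOf x := orderOf_map_dvd SemidirectProduct.rightHom x
    have hright : (x ^ m).right = 1 := by
      rw [show (x ^ m).right = x.right ^ m from map_pow SemidirectProduct.rightHom x m, hm, pow_orderOf_eq_one]
    by_cases hv : (∑ i ∈ Finset.range m, (rho K x.right).1 ^ i) *ᵥ x.left.toAdd = 0
    · refine ⟨x.right, Nat.dvd_antisymm hdvd (orderOf_dvd_of_pow_eq_one ?_)⟩
      refine SemidirectProduct.ext (Multiplicative.toAdd.injective ?_) hright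
      rw [← hm, pow_left, hv]
      rfl
    · obtain ⟨h, hh⟩ := double_order hK hex x.right fun h0 => hv (by rw [hm, h0, Matrix.zero_mulVec])
      refine ⟨h, ?_⟩
      rw [hh, ← hm]
      have h2m : orderOf x ∣ 2 * m :=
        orderOf_dvd_of_pow_eq_one (by rw [mul_comm, pow_mul]; exact hexp _ hright)
      obtain ⟨k, hk⟩ := hdvd
      rw [hk, mul_comm 2] at h2m
      rcases (Nat.dvd_prime Nat.prime_two).1 (Nat.dvd_of_mul_dvd_mul_left (orderOf_pos _) h2m) with rfl | rfl
      · refine absurd ?_ hv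
        rw [← pow_left]
        rw [show x ^ m = 1 from (mul_one m).symm ▸ hk ▸ pow_orderOf_eq_one x]
        rfl
      · rw [hk, mul_comm]
  · rintro ⟨g, rfl⟩
    exact ⟨SemidirectProduct.inr g, orderOf_injective _ SemidirectProduct.inr_injective g⟩

end Cfsg.Agent.Lie.TrialityForm
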