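import Cfsg.Agent.Lib.Lie.TrialityForm.Invariant
import Mathlib.LinearAlgebra.Eigenspace.Zero
import Mathlib.FieldTheory.IsAlgClosed.AlgebraicClosure

/-!
Elements of odd order preserving the form: their eigenvalues and fixed spaces.
-/

set_option autoImplicit false
set_option maxRecDepth 100000
set_option linter.unusedSectionVars false

namespace Cfsg.Agent.Lie.TrialityForm

open Matrix Module
open scoped MatrixGroups

variable {K : Type*} [Field K] [CharP K 2]

/-- The projection onto the fixed space. -/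
def proj (o : ℕ) (C : Matrix I8 I8 K) : Matrix I8 I8 K := ∑ i ∈ Finset.range o, C ^ i

theorem mat_two (A : Matrix I8 I8 K) : A + A = 0 := by ext i j; exact CharTwo.add_self_eq_zero _

theorem odd_smul {o : ℕ} (ho : Odd o) (A : Matrix I8 I8 K) : o • A = A := by
  obtain ⟨k, rfl⟩ := ho
  rw [add_nsmul, one_nsmul, two_mul, add_nsmul, mat_two, zero_add]

section proj

variable {o : ℕ} (ho : Odd o) {C : Matrix I8 I8 K} (hC : C ^ o = 1)
include ho hC

theorem sub_one_mul_proj : (C - 1) * proj o C = 0 := by rw [proj, mul_geom_sum, hC, sub_self]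

theorem proj_mul_sub_one : proj o C * (C - 1) = 0 := by rw [proj, geom_sum_mul, hC, sub_self]

theorem mul_proj : C * proj o C = proj o C := by
  have h := sub_one_mul_proj ho hC
  rwa [sub_mul, one_mul, sub_eq_zero] at h

theorem pow_mul_proj (i : ℕ) : C ^ i * proj o C = proj o C := by
  induction i with
  | zero => rw [pow_zero, one_mul]
  | succ i ih => rw [pow_succ, mul_assoc, mul_proj ho hC, ih]

theorem proj_idem : proj o C * proj o C = proj o C := by
  conv_lhs => arg 1; rw [proj]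
  rw [Finset.sum_mul, Finset.sum_congr rfl (fun i _ => pow_mul_proj ho hC i), Finset.sum_const,
    Finset.card_range, odd_smul ho]

theorem one_eq : ∃ S : Matrix I8 I8 K, 1 = proj o C + (C - 1) * S := by
  refine ⟨∑ i ∈ Finset.range o, ∑ j ∈ Finset.range i, C ^ j, ?_⟩
  rw [Finset.mul_sum]
  simp only [mul_geom_sum]
  rw [Finset.sum_sub_distrib, Finset.sum_const, Finset.card_range, odd_smul ho, ← proj,
    ← add_sub_assoc, mat_two, zero_sub]
  rw [eq_neg_iff_add_eq_zero, mat_two]

theorem fix_iff (v : I8 → K) : C *ᵥ v = v ↔ proj o C *ᵥ v = v := by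
  refine ⟨fun h => ?_, fun h => ?_⟩
  · have hp : ∀ i, C ^ i *ᵥ v = v := fun i => by
      induction i with
      | zero => rw [pow_zero, Matrix.one_mulVec]
      | succ i ih => rw [pow_succ, ← Matrix.mulVec_mulVec, h, ih]
    rw [proj, Matrix.sum_mulVec, Finset.sum_congr rfl (fun i _ => hp i), Finset.sum_const, Finset.card_range]
    obtain ⟨k, rfl⟩ := ho
    rw [add_nsmul, one_nsmul, two_mul, add_nsmul]
    funext p
    simp [CharTwo.add_self_eq_zero]
  · conv_lhs => rw [← h, Matrix.mulVec_mulVec, mul_proj ho hC]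
    exact h

theorem rank_compl : (C - 1).rank + (proj o C).rank = 8 := by
  refine le_antisymm ?_ ?_
  · simpa using rank_add_rank_le_card_of_mul_eq_zero (sub_one_mul_proj ho hC)
  · obtain ⟨S, hS⟩ := one_eq ho hC
    have h : (⊤ : Submodule K (I8 → K)) ≤
        LinearMap.range (C - 1).mulVecLin ⊔ LinearMap.range (proj o C).mulVecLin := fun v _ => by
      have hv := congrArg (· *ᵥ v) hS
      simp only [Matrix.one_mulVec, Matrix.add_mulVec, ← Matrix.mulVec_mulVec] at hv
      rw [hv, add_comm]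
      exact Submodule.add_mem_sup ⟨_, rfl⟩ ⟨_, rfl⟩
    have h1 := Submodule.finrank_mono h
    rw [finrank_top, finrank_fintype_fun_eq_card] at h1
    have h2 := Submodule.finrank_sup_add_finrank_inf_eq (LinearMap.range (C - 1).mulVecLin)
      (LinearMap.range (proj o C).mulVecLin)
    simp only [Fintype.card_sum, Fintype.card_fin] at h1
    unfold Matrix.rank
    omega

end proj

theorem rank_sq (A : Matrix I8 I8 K) : (sq A).rank = A.rank := by
  obtain ⟨V, U, e, hV, hU, h⟩ := A.exists_rank_normal_form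
  have hV' := (Matrix.isUnit_iff_isUnit_det _).1 hV
  have hU' := (Matrix.isUnit_iff_isUnit_det _).1 hU
  have hV'' := (Matrix.isUnit_iff_isUnit_det _).1 (hV.map (sq (K := K)))
  have hU'' := (Matrix.isUnit_iff_isUnit_det _).1 (hU.map (sq (K := K)))
  have hb : sq (V * A * U) = V * A * U := by
    rw [h]
    ext p q
    rw [sq_apply]
    rcases hp : e p with a | a <;> rcases hq : e q with b | b <;>
      simp [hp, hq, Matrix.one_apply, ite_pow]
  rw [← rank_mul_eq_right_of_isUnit_det _ (sq A) hV'', ← rank_mul_eq_left_of_isUnit_det _ (_ * sq A) hU'',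
    ← map_mul, ← map_mul, hb, rank_mul_eq_left_of_isUnit_det _ _ hU', rank_mul_eq_right_of_isUnit_det _ _ hV']

/-- The polar form. -/
theorem polar_eq (x y : I8 → K) : x ⬝ᵥ ((J : Matrix I8 I8 K) *ᵥ y) =
    Cfsg.quadFormPlus 4 K (x + y) - Cfsg.quadFormPlus 4 K x - Cfsg.quadFormPlus 4 K y := by
  simp only [dotProduct, J_mulVec, Cfsg.quadFormPlus, Fintype.sum_sum_type, Sum.swap_inl, Sum.swap_inr,
    Pi.add_apply, ← Finset.sum_add_distrib, ← Finset.sum_sub_distrib]
  exact Finset.sum_congr rfl fun i _ => by ring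

theorem T_sub_left (a b y z : I8 → K) : T (a - b) y z = T a y z - T b y z := by
  have h : ∀ i, co (a - b) i = co a i - co b i := fun i => by
    unfold co
    split_ifs <;> simp
  unfold T
  induction Tlist with
  | nil => simp
  | cons p L ih =>
    rw [List.map_cons, List.sum_cons, List.map_cons, List.sum_cons, List.map_cons, List.sum_cons, ih, h]
    ring

/-- What is needed about one element. -/
structure Good (o : ℕ) (C : Matrix I8 I8 K) : Prop where
  ho : Odd o
  hC : C ^ o = 1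
  iso : ∀ v, Cfsg.quadFormPlus 4 K (C *ᵥ v) = Cfsg.quadFormPlus 4 K v
  inv : ∀ x y z, T (C *ᵥ x) (sq C *ᵥ y) (sq (sq C) *ᵥ z) = T x y z

namespace Good

variable {o : ℕ} {C : Matrix I8 I8 K} (G : Good o C)
include G

theorem polar_inv (x y : I8 → K) :
    (C *ᵥ x) ⬝ᵥ ((J : Matrix I8 I8 K) *ᵥ (C *ᵥ y)) = x ⬝ᵥ ((J : Matrix I8 I8 K) *ᵥ y) := by
  rw [polar_eq, polar_eq, ← Matrix.mulVec_add, G.iso, G.iso, G.iso]

theorem transpose_J : Cᵀ * (J : Matrix I8 I8 K) * C = J := by
  refine Matrix.ext_of_mulVec_single fun q => funext fun p => ?_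
  have h := G.polar_inv (Pi.single p 1) (Pi.single q 1)
  rw [dotProduct_mulVec (C *ᵥ _), ← Matrix.vecMul_transpose, Matrix.vecMul_vecMul, ← dotProduct_mulVec] at h
  rw [← Matrix.mulVec_mulVec, ← single_one_dotProduct (v := ((Cᵀ * J) *ᵥ (C *ᵥ Pi.single q 1))) p, h,
    single_one_dotProduct]

theorem orth (a b : I8 → K) :
    (proj o C *ᵥ a) ⬝ᵥ ((J : Matrix I8 I8 K) *ᵥ ((C - 1) *ᵥ b)) = 0 := by
  have h := G.polar_inv (proj o C *ᵥ a) b
  rw [Matrix.mulVec_mulVec, mul_proj G.ho G.hC] at h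
  rw [Matrix.sub_mulVec, Matrix.one_mulVec, Matrix.mulVec_sub, dotProduct_sub, h, sub_self]

theorem nondeg {A B : Matrix I8 I8 K} (h1 : ∀ v, ∃ a b, v = A *ᵥ a + B *ᵥ b)
    (h2 : ∀ a b, (A *ᵥ a) ⬝ᵥ ((J : Matrix I8 I8 K) *ᵥ (B *ᵥ b)) = 0) (hA : A ≠ 0) :
    ∃ a, Cfsg.quadFormPlus 4 K (A *ᵥ a) ≠ 0 := by
  by_contra h
  push Not at h
  refine hA (Matrix.ext_of_mulVec_single fun q => funext fun p => ?_)
  rw [Matrix.zero_mulVec, Pi.zero_apply]
  obtain ⟨a, b, hab⟩ := h1 (Pi.single p.swap 1)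
  have h0 : (A *ᵥ Pi.single q 1) ⬝ᵥ ((J : Matrix I8 I8 K) *ᵥ Pi.single p.swap 1) = 0 := by
    rw [hab, Matrix.mulVec_add, dotProduct_add, h2, add_zero, polar_eq, ← Matrix.mulVec_add, h, h, h]
    simp
  rw [polar_eq] at h0
  rw [← h0, ← polar_eq]
  rw [dotProduct, Finset.sum_eq_single p]
  · simp [J_mulVec]
  · intro r _ hr
    rw [J_mulVec, Pi.single_eq_of_ne (fun h => hr (by simpa using congrArg Sum.swap h)), mul_zero]
  · simp

theorem exists_fixed_nonsingular (hP : proj o C ≠ 0) :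
    ∃ w, C *ᵥ w = w ∧ Cfsg.quadFormPlus 4 K w ≠ 0 := by
  obtain ⟨S, hS⟩ := one_eq G.ho G.hC
  obtain ⟨a, ha⟩ := G.nondeg (fun v => ⟨v, S *ᵥ v, by
    rw [Matrix.mulVec_mulVec, ← Matrix.add_mulVec, ← hS, Matrix.one_mulVec]⟩) G.orth hP
  exact ⟨_, by rw [Matrix.mulVec_mulVec, mul_proj G.ho G.hC], ha⟩

theorem exists_moved_nonsingular (h1 : C ≠ 1) :
    ∃ a, Cfsg.quadFormPlus 4 K ((C - 1) *ᵥ a) ≠ 0 := by
  obtain ⟨S, hS⟩ := one_eq G.ho G.hC
  refine G.nondeg (fun v => ⟨S *ᵥ v, v, by
    rw [Matrix.mulVec_mulVec, ← Matrix.add_mulVec, add_comm, ← hS, Matrix.one_mulVec]⟩) (fun a b => ?_)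
    (sub_ne_zero.2 h1)
  rw [← G.orth b a, polar_eq, polar_eq, add_comm]
  ring

theorem contraction {w : I8 → K} (hw : C *ᵥ w = w) : (sq C)ᵀ * Mw w * sq (sq C) = Mw w := by
  refine Matrix.ext_of_mulVec_single fun q => funext fun p => ?_
  have h := G.inv w (Pi.single p 1) (Pi.single q 1)
  rw [hw, T_eq_Mw, T_eq_Mw, dotProduct_mulVec (sq C *ᵥ _), ← Matrix.vecMul_transpose, Matrix.vecMul_vecMul,
    ← dotProduct_mulVec, single_one_dotProduct, single_one_dotProduct, Matrix.mulVec_mulVec] at h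
  exact h

theorem charpoly_inv : ((J : Matrix I8 I8 K) * Cᵀ * J).charpoly = C.charpoly ∧
    ((J : Matrix I8 I8 K) * Cᵀ * J) * C = 1 := by
  refine ⟨?_, ?_⟩
  · rw [Matrix.charpoly_mul_comm, ← mul_assoc, J_mul_self, one_mul, Matrix.charpoly_transpose]
  · rw [mul_assoc, mul_assoc, ← mul_assoc Cᵀ, G.transpose_J, J_mul_self]

theorem charpoly_sq (hP : proj o C ≠ 0) : (sq C).charpoly = C.charpoly := by
  obtain ⟨w, hw, hQ⟩ := G.exists_fixed_nonsingular hP
  have hM := Mw_det_ne hQ
  have hJ : (sq C)ᵀ * ((J : Matrix I8 I8 K) * sq C * J) = 1 := by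
    have h := congrArg sq G.transpose_J
    rw [map_mul, map_mul, sq_J, show sq Cᵀ = (sq C)ᵀ from rfl] at h
    rw [← mul_assoc, ← mul_assoc, h, J_mul_self]
  have hc : Mw w * sq (sq C) = (J * sq C * J) * Mw w := by
    conv_rhs => rw [← G.contraction hw]
    rw [← mul_assoc, ← mul_assoc, mul_eq_one_comm.1 hJ, one_mul]
  have h2 : (sq (sq C)).charpoly = (sq C).charpoly := by
    have e : sq (sq C) = (Mw w)⁻¹ * ((J * sq C * J) * Mw w) := by
      rw [← hc, ← mul_assoc, Matrix.nonsing_inv_mul _ hM, one_mul]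
    rw [e, Matrix.charpoly_mul_comm, mul_assoc, Matrix.mul_nonsing_inv _ hM, mul_one, Matrix.charpoly_mul_comm,
      ← mul_assoc, J_mul_self, one_mul]
  refine Polynomial.map_injective (frobenius K 2) (frobenius_inj K 2) ?_
  rw [← Matrix.charpoly_map, ← Matrix.charpoly_map]
  exact h2

theorem rank_ne_two : (C - 1).rank ≠ 2 := by
  intro hr
  have h1 : C ≠ 1 := by rintro rfl; rw [sub_self, Matrix.rank_zero] at hr; omega
  obtain ⟨a, ha⟩ := G.exists_moved_nonsingular h1
  have hP : (proj o C).rank = 6 := by have := rank_compl G.ho G.hC; omega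
  have hf1 : sq C * sq (proj o C) = sq (proj o C) := by rw [← map_mul, mul_proj G.ho G.hC]
  have hf2 : sq (sq C) * sq (sq (proj o C)) = sq (sq (proj o C)) := by rw [← map_mul, hf1]
  have h0 : (sq (proj o C))ᵀ * (Mw ((C - 1) *ᵥ a) * sq (sq (proj o C))) = 0 := by
    refine Matrix.ext_of_mulVec_single fun q => funext fun p => ?_
    rw [Matrix.zero_mulVec, Pi.zero_apply, ← Matrix.mulVec_mulVec, ← single_one_dotProduct (v := _ *ᵥ _) p,
      dotProduct_mulVec, Matrix.vecMul_transpose, ← Matrix.mulVec_mulVec, ← T_eq_Mw, Matrix.sub_mulVec,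
      Matrix.one_mulVec, T_sub_left]
    set y := sq (proj o C) *ᵥ Pi.single p (1 : K) with hy
    set z := sq (sq (proj o C)) *ᵥ Pi.single q (1 : K) with hz
    have e1 : sq C *ᵥ y = y := by rw [hy, Matrix.mulVec_mulVec, hf1]
    have e2 : sq (sq C) *ᵥ z = z := by rw [hz, Matrix.mulVec_mulVec, hf2]
    have e := G.inv a y z
    rw [e1, e2] at e
    rw [e, sub_self]
  have h := rank_add_rank_le_card_of_mul_eq_zero h0
  rw [Matrix.rank_transpose, rank_mul_eq_right_of_isUnit_det _ _ (Mw_det_ne ha), rank_sq, rank_sq, rank_sq, hP] at h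
  simp at h

theorem spectrum (hdvd : o ∣ 51597) (hP : proj o C ≠ 0) :
    ∃ d ∈ [1, 3, 7, 9], C ^ d = 1 ∧ (d = 7 ∨ d = 9 → (proj o C).rank ≤ 2) := by
  classical
  let L := AlgebraicClosure K
  let φ : K →+* L := algebraMap K L
  haveI : CharP L 2 := charP_of_injective_ringHom φ.injective 2
  set f := C.charpoly.map φ with hf
  set CL := φ.mapMatrix C with hCL
  have hfC : f = CL.charpoly := (Matrix.charpoly_map C φ).symm
  have hmon : f.Monic := C.charpoly_monic.map φ
  have hcard : f.roots.card = 8 := by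
    rw [IsAlgClosed.card_roots_eq_natDegree, hfC, Matrix.charpoly_natDegree_eq_dim]
    rfl
  have hroot : ∀ x : L, x ∈ f.roots ↔ f.eval x = 0 := fun x => by
    rw [Polynomial.mem_roots hmon.ne_zero]; rfl
  have hsq : ∀ x ∈ f.roots, x ^ 2 ∈ f.roots := by
    intro x hx
    rw [hroot] at hx ⊢
    have h : f = f.map (frobenius L 2) := by
      rw [hf, Polynomial.map_map]
      conv_lhs => rw [← G.charpoly_sq hP, sq, RingHom.mapMatrix_apply, Matrix.charpoly_map,
        Polynomial.map_map]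
      congr 1
      ext c
      simp [frobenius_def]
    rw [h, ← frobenius_def, Polynomial.eval_map_apply, hx, map_zero]
  have hpow : ∀ x ∈ f.roots, x ^ o = 1 := by
    intro x hx
    rw [hroot, hfC, Matrix.eval_charpoly] at hx
    obtain ⟨v, hv, hv0⟩ := Matrix.exists_mulVec_eq_zero_iff.2 hx
    rw [Matrix.sub_mulVec, sub_eq_zero, Matrix.scalar_apply, ← Matrix.smul_one_eq_diagonal, Matrix.smul_mulVec, Matrix.one_mulVec] at hv0
    have hi : ∀ i, CL ^ i *ᵥ v = x ^ i • v := fun i => by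
      induction i with
      | zero => simp
      | succ i ih => rw [pow_succ, ← Matrix.mulVec_mulVec, ← hv0, Matrix.mulVec_smul, ih, smul_smul, pow_succ']
    have h := hi o
    rw [hCL, ← map_pow, G.hC, map_one, Matrix.one_mulVec] at h
    obtain ⟨p, hp⟩ := Function.ne_iff.1 hv
    have := congrFun h p
    rw [Pi.smul_apply, smul_eq_mul] at this
    exact (mul_eq_right₀ hp).1 this.symm
  have hne : ∀ x ∈ f.roots, x ≠ 0 := fun x hx h => by
    have := hpow x hx
    rw [h, zero_pow (Nat.pos_iff_ne_zero.1 G.ho.pos)] at this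
    exact zero_ne_one this
  have hinv : ∀ x ∈ f.roots, x⁻¹ ∈ f.roots := by
    intro x hx
    have hx0 := hne x hx
    rw [hroot] at hx ⊢
    rw [hfC, Matrix.eval_charpoly] at hx
    obtain ⟨h1, h2⟩ := G.charpoly_inv
    rw [hf, ← h1, ← Matrix.charpoly_map, Matrix.eval_charpoly]
    set D := φ.mapMatrix (J * Cᵀ * J) with hD
    have hDC : D * CL = 1 := by rw [hD, hCL, ← map_mul, h2, map_one]
    have e : (Matrix.scalar I8 x⁻¹ - D) * CL = (-x⁻¹) • (Matrix.scalar I8 x - CL) := by
      rw [sub_mul, hDC, Matrix.scalar_apply, Matrix.scalar_apply, ← Matrix.smul_one_eq_diagonal, ← Matrix.smul_one_eq_diagonal, Matrix.smul_mul, one_mul,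
        smul_sub, smul_smul, neg_mul, inv_mul_cancel₀ hx0]
      simp [sub_eq_add_neg, add_comm]
      exact (neg_neg _).symm
    have h := congrArg Matrix.det e
    rw [Matrix.det_mul, Matrix.det_smul, hx, mul_zero] at h
    refine (mul_eq_zero.1 h).resolve_right fun h0 => ?_
    have := congrArg Matrix.det hDC
    rw [Matrix.det_mul, h0, mul_zero, Matrix.det_one] at this
    exact zero_ne_one this
  have hk : (proj o C).rank ≤ f.roots.count 1 := by
    rw [Polynomial.count_roots, ← map_one φ, hf, ← Polynomial.eq_rootMultiplicity_map φ.injective,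
      ← Matrix.charpoly_toLin']
    refine le_trans ?_ (LinearMap.finrank_eigenspace_le _ 1)
    refine Submodule.finrank_mono ?_
    rintro _ ⟨v, rfl⟩
    rw [Module.End.mem_eigenspace_iff, one_smul, Matrix.toLin'_apply, Matrix.mulVecLin_apply,
      Matrix.mulVec_mulVec, mul_proj G.ho G.hC]
  have hk0 : 1 ≤ (proj o C).rank := by
    refine Nat.one_le_iff_ne_zero.2 fun h => hP ?_
    rw [Matrix.rank, Submodule.finrank_eq_zero, LinearMap.range_eq_bot] at h
    exact Matrix.ext_of_mulVec_single fun q => by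
      rw [← Matrix.mulVecLin_apply, h, LinearMap.zero_apply, Matrix.zero_mulVec]
  set R := f.roots.toFinset.erase 1 with hR
  have hRk : R.card + (proj o C).rank ≤ 8 := by
    have h1 : (1 : L) ∈ f.roots.toFinset := by
      rw [Multiset.mem_toFinset, ← Multiset.count_pos]; omega
    have h2 := Multiset.toFinset_sum_count_eq f.roots
    rw [← Finset.add_sum_erase _ _ h1, hcard, ← hR] at h2
    have h3 : R.card ≤ ∑ x ∈ R, f.roots.count x := by
      rw [Finset.card_eq_sum_ones]
      exact Finset.sum_le_sum fun x hx => Multiset.count_pos.2 (Multiset.mem_toFinset.1 (Finset.mem_of_mem_erase hx))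
    omega
  have hmem : ∀ x, x ∈ R ↔ x ≠ 1 ∧ x ∈ f.roots := fun x => by simp [hR]
  have horbit : ∀ x ∈ R, ∀ i : ℕ, x ^ 2 ^ i ∈ f.roots ∧ (x ^ 2 ^ i)⁻¹ ∈ f.roots := by
    intro x hx i
    have : x ^ 2 ^ i ∈ f.roots := by
      induction i with
      | zero => simpa using ((hmem x).1 hx).2
      | succ i ih => rw [pow_succ, pow_mul]; exact hsq _ ih
    exact ⟨this, hinv _ this⟩
  have hodd : ∀ x ∈ R, Odd (orderOf x) := fun x hx =>
    G.ho.of_dvd_nat (orderOf_dvd_of_pow_eq_one (hpow x ((hmem x).1 hx).2))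
  let E : ℕ → Finset ℕ := fun d =>
    ((Finset.range 6).image fun i => 2 ^ i % d) ∪ ((Finset.range 6).image fun i => (d - 2 ^ i % d) % d)
  have horder : ∀ x ∈ R, orderOf x ∈ [3, 7, 9] ∧ (E (orderOf x)).image (x ^ ·) ⊆ R.filter (orderOf · = orderOf x) ∧
      ((E (orderOf x)).image (x ^ ·)).card = (E (orderOf x)).card := by
    intro x hx
    set d := orderOf x with hd
    have hdo : d ∣ o := orderOf_dvd_of_pow_eq_one (hpow x ((hmem x).1 hx).2)
    have hd2 : Odd d := hodd x hx
    have hd1 : d ≠ 1 := fun h => ((hmem x).1 hx).1 (orderOf_eq_one_iff.1 h)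
    have hsub : ∀ e ∈ E d, x ^ e ∈ f.roots ∧ e < d := by
      intro e he
      simp only [E, Finset.mem_union, Finset.mem_image, Finset.mem_range] at he
      rcases he with ⟨i, -, rfl⟩ | ⟨i, -, rfl⟩ <;> refine ⟨?_, Nat.mod_lt _ hd2.pos⟩
      · rw [hd, pow_mod_orderOf]; exact (horbit x hx i).1
      · rw [hd, pow_mod_orderOf, ← hd]
        have h : x ^ (d - 2 ^ i % d) * x ^ 2 ^ i = 1 := by
          rw [← pow_mod_orderOf x (2 ^ i), ← hd, ← pow_add,
            Nat.sub_add_cancel (Nat.mod_lt _ hd2.pos).le, hd, pow_orderOf_eq_one]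
        rw [eq_inv_of_mul_eq_one_left h]
        exact (horbit x hx i).2
    have hinj : ((E d).image (x ^ ·)).card = (E d).card :=
      Finset.card_image_of_injOn fun a ha b hb h => pow_injOn_Iio_orderOf (hsub a ha).2 (hsub b hb).2 h
    have hd63 : d ∣ 63 := by
      obtain ⟨i, hi, j, hj, hij, he⟩ := Finset.exists_ne_map_eq_of_card_lt_of_maps_to (s := Finset.range 8) (t := R)
        (f := fun i => x ^ 2 ^ i) (by rw [Finset.card_range]; omega) (fun i _ => (hmem _).2 ⟨fun h => hd1 (by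
          have := orderOf_dvd_of_pow_eq_one h
          exact Nat.eq_one_of_dvd_coprimes ((hd2.coprime_two_right).pow_right i) dvd_rfl this), (horbit x hx i).1⟩)
      clear hinj hsub
      wlog hlt : i < j generalizing i j
      · exact this j hj i hi hij.symm he.symm (by omega)
      replace he : 2 ^ i ≡ 2 ^ j [MOD d] :=
        (pow_eq_pow_iff_modEq (x := Units.mk0 x (hne x ((hmem x).1 hx).2))).1 (Units.ext (by simpa using he))
          |> fun h => by rwa [← orderOf_units, Units.val_mk0, ← hd] at h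
      obtain ⟨k, rfl⟩ := Nat.exists_eq_add_of_lt hlt
      have h2 : d ∣ 2 ^ i * (2 ^ (k + 1) - 1) := by
        rw [Nat.mul_sub, mul_one, ← pow_add, ← add_assoc]
        exact (Nat.modEq_iff_dvd' (Nat.pow_le_pow_right (by norm_num) (by omega))).1 he
      have h3 : d ∣ Nat.gcd (2 ^ (k + 1) - 1) 51597 :=
        Nat.dvd_gcd (((hd2.coprime_two_right).pow_right i).dvd_of_dvd_mul_left h2) (hdo.trans hdvd)
      have h4 : ∀ k < 7, Nat.gcd (2 ^ (k + 1) - 1) 51597 ∣ 63 := by decide +kernel
      exact h3.trans (h4 k (by rw [Finset.mem_range] at hj; omega))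
    have hsmall : d ∈ [3, 7, 9] ∨ 7 < (E d).card := by
      have h5 : ∀ d ∈ Nat.divisors 63, d = 1 ∨ d ∈ [3, 7, 9] ∨ 7 < (E d).card := by decide +kernel
      exact (h5 d (Nat.mem_divisors.2 ⟨hd63, by norm_num⟩)).resolve_left hd1
    rcases hsmall with hmem3 | hbig
    · refine ⟨hmem3, fun y hy => ?_, hinj⟩
      obtain ⟨e, he, rfl⟩ := Finset.mem_image.1 hy
      have hco : ∀ d ∈ [3, 7, 9], ∀ e ∈ E d, Nat.Coprime d e := by decide +kernel
      have ho' : orderOf (x ^ e) = d := by rw [(hco d hmem3 e he).orderOf_pow]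
      refine Finset.mem_filter.2 ⟨(hmem _).2 ⟨fun h => hd1 ?_, (hsub e he).1⟩, ho'⟩
      rw [← ho', h, orderOf_one]
    · exfalso
      by_cases h1 : (1 : L) ∈ (E d).image (x ^ ·)
      · obtain ⟨e, he, h⟩ := Finset.mem_image.1 h1
        have h6 : ∀ d ∈ Nat.divisors 63, d = 1 ∨ 0 ∉ E d := by decide +kernel
        have := pow_injOn_Iio_orderOf (x := x) (hsub e he).2 hd2.pos (h.trans (pow_zero x).symm)
        exact ((h6 d (Nat.mem_divisors.2 ⟨hd63, by norm_num⟩)).resolve_left hd1) (this ▸ he)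
      · have : ((E d).image (x ^ ·)).card ≤ R.card := Finset.card_le_card fun y hy => by
          obtain ⟨e, he, rfl⟩ := Finset.mem_image.1 hy
          exact (hmem _).2 ⟨fun h => h1 (Finset.mem_image.2 ⟨e, he, h⟩), (hsub e he).1⟩
        omega
  have hall : ∃ d ∈ [1, 3, 7, 9], (∀ x ∈ f.roots, x ^ d = 1) ∧ (d = 7 ∨ d = 9 → (proj o C).rank ≤ 2) := by
    rcases R.eq_empty_or_nonempty with h0 | ⟨x, hx⟩
    · refine ⟨1, by simp, fun y hy => ?_, fun h => by omega⟩
      rw [pow_one]
      by_contra hy1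
      exact Finset.notMem_empty y (h0 ▸ (hmem y).2 ⟨hy1, hy⟩)
    obtain ⟨hd, hsub, hc⟩ := horder x hx
    have hE : ∀ d ∈ [3, 7, 9], (E d).card = if d = 3 then 2 else 6 := by decide +kernel
    refine ⟨orderOf x, List.mem_cons_of_mem _ hd, fun y hy => ?_, fun h => ?_⟩
    · by_cases hy1 : y = 1
      · rw [hy1, one_pow]
      have hyR := (hmem y).2 ⟨hy1, hy⟩
      by_contra hne
      obtain ⟨hd', hsub', hc'⟩ := horder y hyR
      have hne' : orderOf y ≠ orderOf x := fun h => hne (h ▸ pow_orderOf_eq_one y)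
      have hdis : Disjoint (R.filter (orderOf · = orderOf x)) (R.filter (orderOf · = orderOf y)) := by
        rw [Finset.disjoint_filter]
        exact fun z _ h1 h2 => hne' (h2.symm.trans h1)
      have h1 := Finset.card_le_card (Finset.union_subset_union hsub hsub')
      rw [Finset.card_union_of_disjoint (hdis.mono hsub hsub'), hc, hc', hE _ hd, hE _ hd'] at h1
      have h2 := h1.trans (Finset.card_le_card (Finset.union_subset (Finset.filter_subset _ _) (Finset.filter_subset _ _)))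
      simp only [List.mem_cons, List.not_mem_nil, or_false] at hd hd'
      split_ifs at h2 <;> omega
    · have h1 := (Finset.card_le_card hsub).trans (Finset.card_le_card (Finset.filter_subset _ _))
      rw [hc, hE _ hd, if_neg (by omega)] at h1
      omega
  obtain ⟨d, hd, hroots, hle⟩ := hall
  refine ⟨d, hd, ?_, hle⟩
  have hdvd' : f ∣ (Polynomial.X ^ d - 1) ^ 8 := by
    conv_lhs => rw [(IsAlgClosed.splits f).eq_prod_roots_of_monic hmon]
    have h : ∀ M : Multiset L, (∀ x ∈ M, x ^ d = 1) →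
        (M.map fun a => Polynomial.X - Polynomial.C a).prod ∣ (Polynomial.X ^ d - 1) ^ Multiset.card M := by
      intro M
      induction M using Multiset.induction_on with
      | empty => simp
      | cons a M ih =>
        intro hM
        rw [Multiset.map_cons, Multiset.prod_cons, Multiset.card_cons, pow_succ']
        refine mul_dvd_mul ?_ (ih fun x hx => hM x (Multiset.mem_cons_of_mem hx))
        rw [Polynomial.dvd_iff_isRoot]
        simp [hM a (Multiset.mem_cons_self a M)]
    exact hcard ▸ h _ hroots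
  have hK : C.charpoly ∣ (Polynomial.X ^ d - 1) ^ 8 := by
    rw [← Polynomial.map_dvd_map' φ]
    simpa [hf] using hdvd'
  obtain ⟨g, hg⟩ := hK
  have h0 := congrArg (Polynomial.aeval C) hg
  rw [map_mul, Matrix.aeval_self_charpoly, zero_mul, map_pow, map_sub, map_one, Polynomial.aeval_X_pow] at h0
  haveI : CharP (Matrix I8 I8 K) 2 := Matrix.charP 2
  have h8 : (C ^ d) ^ 8 = 1 := by
    rw [show (8 : ℕ) = 2 ^ 3 by norm_num, sub_pow_char_pow_of_commute _ _ (Commute.one_right _), one_pow,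
      sub_eq_zero] at h0
    norm_num at h0
    exact h0
  have hco : Nat.gcd 8 o = 1 := by
    rw [show (8 : ℕ) = 2 ^ 3 by norm_num]
    exact (G.ho.coprime_two_left).pow_left 3
  have := pow_gcd_eq_one.2 ⟨h8, show (C ^ d) ^ o = 1 by rw [← pow_mul, mul_comm, pow_mul, G.hC, one_pow]⟩
  rwa [hco, pow_one] at this

end Good

end Cfsg.Agent.Lie.TrialityForm
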